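import Cfsg.Agent.TAB.F22.Fam

/-!
# The character table of `Fi22` : consequences (helper31, TAB)
-/

set_option autoImplicit false
set_option maxRecDepth 100000

namespace Cfsg.Agent.TAB.F22

open Cfsg Cfsg.Agent.TAB.Eng Cfsg.Agent.TAB.Use

theorem van : VAN.Van3 Spor.Fi22 :=
  haveI := fin22
  tab.van3 inh Fischer.Fi22Order.card_fi22 [(2, 17), (3, 9), (5, 2), (7, 1), (11, 1), (13, 1)]
    (by decide +kernel) 25 35 46 (by decide +kernel)

theorem deg : DegList Spor.Fi22 [1, 78, 429, 1001, 1430, 3003, 3080, 10725, 13650, 30030, 32032, 43680, 45045, 48048,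
    50050, 50050, 75075, 75075, 75075, 81081, 114400, 150150, 205920, 289575, 300300, 320320, 360855, 370656, 450450,
    450450, 576576, 577368, 579150, 600600, 675675, 720720, 800800, 852930, 938223, 972972, 1201200, 1360800, 1372800,
    1441792, 1791153, 1876446, 2027025, 2050048, 2316600, 2402400, 2555904, 2555904, 2729376, 138600, 138600, 400400,
    400400, 400400, 400400, 582400, 582400, 600600, 600600, 982800, 982800] := by
  refine Eq.subst (motive := DegList Spor.Fi22) ?_ tab.degList
  decide +kernel

theorem odd : OddRat Spor.Fi22 :=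
  haveI := fin22
  tab.oddRat inh [] rfl (by decide +kernel)

theorem sig : OddSig Spor.Fi22 :=
  haveI := fin22
  tab.oddSig inh [] rfl [] (List.forall_mem_nil _) (by decide +kernel)

end Cfsg.Agent.TAB.F22
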