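import Cfsg.Agent.H123.Cls.FiRep

/-!
# The fixed points of the powers of the representatives of `Fi22` on 3510 points, part A (helper31, TAB)
-/

set_option autoImplicit false
set_option maxRecDepth 100000
set_option exponentiation.threshold 5000

namespace Cfsg.Agent.TAB.F22

open Cfsg.Agent.H123.Cls Cfsg.Agent.H123.Cls.FiDat
open Cfsg.Agent.H494.F22.Row (row)

theorem fx0 : chkSig 3510 12 row 12 p0 ([1, 2].map fun d => (false, d))
    [54, 3510] = true := by decide +kernel

theorem fx1 : chkSig 3510 12 row 12 p1 ([1, 2].map fun d => (false, d))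
    [182, 3510] = true := by decide +kernel

theorem fx2 : chkSig 3510 12 row 12 p2 ([1, 2].map fun d => (false, d))
    [694, 3510] = true := by decide +kernel

theorem fx3 : chkSig 3510 12 row 12 p3 ([1, 3].map fun d => (false, d))
    [0, 3510] = true := by decide +kernel

theorem fx4 : chkSig 3510 12 row 12 p4 ([1, 3].map fun d => (false, d))
    [27, 3510] = true := by decide +kernel

theorem fx5 : chkSig 3510 12 row 12 p5 ([1, 3].map fun d => (false, d))
    [36, 3510] = true := by decide +kernel

theorem fx6 : chkSig 3510 12 row 12 p6 ([1, 3].map fun d => (false, d))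
    [126, 3510] = true := by decide +kernel

theorem fx7 : chkSig 3510 12 row 12 p7 ([1, 2, 4].map fun d => (false, d))
    [6, 54, 3510] = true := by decide +kernel

theorem fx8 : chkSig 3510 12 row 12 p8 ([1, 2, 4].map fun d => (false, d))
    [6, 182, 3510] = true := by decide +kernel

theorem fx9 : chkSig 3510 12 row 12 p9 ([1, 2, 4].map fun d => (false, d))
    [14, 182, 3510] = true := by decide +kernel

theorem fx10 : chkSig 3510 12 row 12 p10 ([1, 2, 4].map fun d => (false, d))
    [30, 182, 3510] = true := by decide +kernel

theorem fx11 : chkSig 3510 12 row 12 p11 ([1, 2, 4].map fun d => (false, d))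
    [38, 182, 3510] = true := by decide +kernel

theorem fx12 : chkSig 3510 12 row 12 p12 ([1, 5].map fun d => (false, d))
    [10, 3510] = true := by decide +kernel

theorem fx13 : chkSig 3510 12 row 12 p13 ([1, 2, 3, 6].map fun d => (false, d))
    [0, 0, 54, 3510] = true := by decide +kernel

theorem fx14 : chkSig 3510 12 row 12 p14 ([1, 2, 3, 6].map fun d => (false, d))
    [3, 27, 54, 3510] = true := by decide +kernel

theorem fx15 : chkSig 3510 12 row 12 p15 ([1, 2, 3, 6].map fun d => (false, d))
    [6, 36, 54, 3510] = true := by decide +kernel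

theorem fx16 : chkSig 3510 12 row 12 p16 ([1, 2, 3, 6].map fun d => (false, d))
    [6, 126, 54, 3510] = true := by decide +kernel

theorem fx17 : chkSig 3510 12 row 12 p17 ([1, 2, 3, 6].map fun d => (false, d))
    [8, 36, 182, 3510] = true := by decide +kernel

theorem fx18 : chkSig 3510 12 row 12 p18 ([1, 2, 3, 6].map fun d => (false, d))
    [10, 36, 694, 3510] = true := by decide +kernel

theorem fx19 : chkSig 3510 12 row 12 p19 ([1, 2, 3, 6].map fun d => (false, d))
    [11, 27, 182, 3510] = true := by decide +kernel

theorem fx20 : chkSig 3510 12 row 12 p20 ([1, 2, 3, 6].map fun d => (false, d))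
    [12, 36, 54, 3510] = true := by decide +kernel

theorem fx21 : chkSig 3510 12 row 12 p21 ([1, 2, 3, 6].map fun d => (false, d))
    [14, 126, 182, 3510] = true := by decide +kernel

theorem fx22 : chkSig 3510 12 row 12 p22 ([1, 2, 3, 6].map fun d => (false, d))
    [19, 27, 694, 3510] = true := by decide +kernel

theorem fx23 : chkSig 3510 12 row 12 p23 ([1, 2, 3, 6].map fun d => (false, d))
    [46, 126, 694, 3510] = true := by decide +kernel

theorem fx24 : chkSig 3510 12 row 12 p24 ([1, 7].map fun d => (false, d))
    [3, 3510] = true := by decide +kernel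

theorem fx25 : chkSig 3510 12 row 12 p25 ([1, 2, 4, 8].map fun d => (false, d))
    [2, 6, 54, 3510] = true := by decide +kernel

theorem fx26 : chkSig 3510 12 row 12 p26 ([1, 2, 4, 8].map fun d => (false, d))
    [2, 6, 182, 3510] = true := by decide +kernel

theorem fx27 : chkSig 3510 12 row 12 p27 ([1, 2, 4, 8].map fun d => (false, d))
    [6, 38, 182, 3510] = true := by decide +kernel

theorem fx28 : chkSig 3510 12 row 12 p28 ([1, 2, 4, 8].map fun d => (false, d))
    [6, 38, 182, 3510] = true := by decide +kernel

theorem fx29 : chkSig 3510 12 row 12 p29 ([1, 3, 9].map fun d => (false, d))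
    [0, 0, 3510] = true := by decide +kernel

theorem fx30 : chkSig 3510 12 row 12 p30 ([1, 3, 9].map fun d => (false, d))
    [3, 27, 3510] = true := by decide +kernel

theorem fx31 : chkSig 3510 12 row 12 p31 ([1, 3, 9].map fun d => (false, d))
    [6, 27, 3510] = true := by decide +kernel

theorem fx32 : chkSig 3510 12 row 12 p32 ([1, 2, 5, 10].map fun d => (false, d))
    [2, 10, 182, 3510] = true := by decide +kernel

theorem fx33 : chkSig 3510 12 row 12 p33 ([1, 2, 5, 10].map fun d => (false, d))
    [4, 10, 694, 3510] = true := by decide +kernel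

end Cfsg.Agent.TAB.F22
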