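import Cfsg.Agent.H139.Cusp.Theta
import Cfsg.Agent.H139.Cusp.Main
import Cfsg.Agent.H139.Cusp.LiftPow
import Cfsg.Agent.H877.PQ.VMult
import Cfsg.Agent.H637.JW
import Cfsg.Agent.H860.Rank
import Cfsg.Agent.ODD.Red.Gal

/-!
# The Brauer lift of the natural module of `GL n 2` (helper31, TAB)

`exists_lift` : a generalized character `B` with `B (x ^ 2) = B x`, which depends on the characteristic polynomial
only, is fixed by `Two`, and whose sums over cyclic groups of odd order count the fixed vectors.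
-/

set_option autoImplicit false

namespace Cfsg.Agent.TAB.Cov

open Cfsg Cfsg.Agent.H139.Cusp Cfsg.Agent.ODD.Red Cfsg.Agent.H860.Rank Polynomial

/-- the properties of the lift -/
structure Lift {n : ℕ} (B : GL (Fin n) (ZMod 2) → ℂ) : Prop where
  gen : IsGeneralizedCharacter (GL (Fin n) (ZMod 2)) B
  sq : ∀ x, B (x ^ 2) = B x
  cp : ∀ x y : GL (Fin n) (ZMod 2), (x : Matrix (Fin n) (Fin n) (ZMod 2)).charpoly =
    (y : Matrix (Fin n) (Fin n) (ZMod 2)).charpoly → B x = B y
  two : ∀ τ, Two τ → ∀ x, τ (B x) = B x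
  sum : ∀ x m, Odd m → x ^ m = 1 → ∑ k ∈ Finset.range m, B (x ^ k) = m * ((n : ℂ) - rk 1 x)

theorem sum_geom {K : Type} [Field K] [DecidableEq K] {θ : K →*₀ ℂ} (hθ : Function.Injective θ) {m : ℕ}
    (R : Multiset K) (hR : ∀ r ∈ R, r ^ m = 1) :
    ∑ k ∈ Finset.range m, (R.map fun r => θ r ^ k).sum = m * (R.count 1 : ℂ) := by
  induction R using Multiset.induction_on with
  | empty => simp
  | cons r R ih =>
    simp only [Multiset.map_cons, Multiset.sum_cons, Finset.sum_add_distrib]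
    rw [ih fun s hs => hR s (Multiset.mem_cons_of_mem hs), Multiset.count_cons]
    by_cases h : 1 = r
    · rw [if_pos h, ← h]
      simp only [map_one, one_pow, Finset.sum_const, Finset.card_range, nsmul_eq_mul]
      push_cast
      ring
    · have h1 : θ r - 1 ≠ 0 := fun h2 => h (hθ ((map_one θ).trans (sub_eq_zero.1 h2).symm))
      have h2 := geom_sum_mul (θ r) m
      rw [← map_pow, hR r (Multiset.mem_cons_self _ _), map_one, sub_self] at h2
      rw [if_neg h, (mul_eq_zero.1 h2).resolve_right h1, zero_add, add_zero]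

theorem mult_one {n : ℕ} {x : GL (Fin n) (ZMod 2)} {m : ℕ} (hm : Odd m) (hx : x ^ m = 1) :
    rk 1 x + (x : Matrix (Fin n) (Fin n) (ZMod 2)).charpoly.rootMultiplicity 1 = n := by
  have h1 : ((m : ℕ) : ZMod 2) ≠ 0 := by
    rw [Ne, ZMod.natCast_eq_zero_iff_even, Nat.not_even_iff_odd]
    exact hm
  have h2 : Matrix.toLinAlgEquiv' (x : Matrix (Fin n) (Fin n) (ZMod 2)) ^ m = 1 := by
    rw [← map_pow, ← Units.val_pow_eq_pow_val, hx, Units.val_one, map_one]
  have h3 : ((x : Matrix (Fin n) (Fin n) (ZMod 2)) + 1).mulVecLin =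
      Matrix.toLinAlgEquiv' (x : Matrix (Fin n) (Fin n) (ZMod 2)) - (1 : ZMod 2) • 1 := by
    rw [one_smul, ← map_one (Matrix.toLinAlgEquiv' (n := Fin n) (R := ZMod 2)), ← map_sub,
      show (x : Matrix (Fin n) (Fin n) (ZMod 2)) + 1 = x - 1 from Matrix.ext fun i j => (CharTwo.sub_eq_add _ _).symm]
    rfl
  rw [← Matrix.charpoly_toLin', ← LinearMap.finrank_maxGenEigenspace_eq]
  erw [H637.JW.maxGen_eq h1 h2]
  rw [Module.End.eigenspace_def, ← h3, rk, pow_one, Matrix.rank, LinearMap.finrank_range_add_finrank_ker,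
    Module.finrank_fin_fun]

/-- **the Brauer lift** -/
theorem exists_lift {n : ℕ} (hn : n ≠ 0) : ∃ B : GL (Fin n) (ZMod 2) → ℂ, Lift B := by
  classical
  obtain ⟨K, _, _, _, -, θ, hθ, hK, -⟩ := exists_extension (ZMod 2) (GaloisField 2 n)
  rw [GaloisField.finrank 2 hn] at hK
  have : CharP K 2 := charP_of_injective_algebraMap (algebraMap (ZMod 2) K).injective 2
  have hs : ∀ x : Matrix (Fin n) (Fin n) (ZMod 2), (x.charpoly.map (algebraMap (ZMod 2) K)).Splits := fun x =>
    hK _ x.charpoly_monic (by rw [Matrix.charpoly_natDegree_eq_dim, Fintype.card_fin])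
  have hp : ∀ (x : Matrix (Fin n) (Fin n) (ZMod 2)) (k : ℕ), lb K θ (x ^ k).charpoly =
      ((x.charpoly.map (algebraMap (ZMod 2) K)).roots.map fun r => θ r ^ k).sum := fun x k => by
    rcases eq_or_ne k 0 with rfl | hk
    · simp only [pow_zero, Multiset.map_const', Multiset.sum_replicate, nsmul_eq_mul, mul_one]
      rw [← (hs x).natDegree_eq_card_roots, natDegree_map, Matrix.charpoly_natDegree_eq_dim, Matrix.charpoly_one,
        lb_pow θ (by monicity), lb_X_sub_one, mul_one]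
    · have h1 := lb_pow_eq K θ (Matrix.toLin' x) (by rw [Matrix.charpoly_toLin']; exact hs x) hk
      rw [← Matrix.toLin'_pow, Matrix.charpoly_toLin', Matrix.charpoly_toLin'] at h1
      exact h1.symm
  refine ⟨fun x => lb K θ (x : Matrix (Fin n) (Fin n) (ZMod 2)).charpoly, ?_, fun x => ?_,
    fun x y h => by rw [h], fun τ hτ x => ?_, fun x m hm hx => ?_⟩
  · have h1 := isGeneralizedCharacter_comp (Matrix.GeneralLinearGroup.toLin (n := Fin n) (R := ZMod 2)).toMonoidHom
      (lb_generalized K θ hθ hK (Fin n → ZMod 2) (Module.finrank_fin_fun _).le)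
    refine (funext fun x => ?_ : _ = fun x : GL (Fin n) (ZMod 2) =>
      lb K θ (x : Matrix (Fin n) (Fin n) (ZMod 2)).charpoly) ▸ h1
    rw [← Matrix.charpoly_toLin']
    rfl
  · rw [Units.val_pow_eq_pow_val, hp, lb]
    conv_rhs => rw [Subsingleton.elim (algebraMap (ZMod 2) K) ((frobenius K 2).comp (algebraMap (ZMod 2) K)),
      ← Polynomial.map_map, (hs _).roots_map, Multiset.map_map]
    exact congrArg _ (Multiset.map_congr rfl fun r _ => (map_pow θ r 2).symm)
  · have := Fintype.ofFinite K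
    obtain ⟨k, -, hk⟩ := FiniteField.card K 2
    have h1 : Odd (Fintype.card K - 1) := by
      rw [hk]
      exact Nat.Even.sub_odd Nat.one_le_two_pow (even_two.pow_of_ne_zero k.ne_zero) odd_one
    rw [lb, map_multiset_sum, Multiset.map_map]
    refine congrArg _ (Multiset.map_congr rfl fun r _ => ?_)
    rcases eq_or_ne r 0 with rfl | hr
    · simp
    · exact hτ _ _ h1 (by rw [← map_pow, FiniteField.pow_card_sub_one_eq_one r hr, map_one])
  · simp only [Units.val_pow_eq_pow_val, hp]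
    rw [sum_geom hθ, count_roots, ← map_one (algebraMap (ZMod 2) K),
      ← eq_rootMultiplicity_map (algebraMap (ZMod 2) K).injective]
    · have h1 := congrArg (Nat.cast : ℕ → ℂ) (mult_one hm hx)
      push_cast at h1
      rw [← h1]
      ring
    · intro r hr
      rw [← Matrix.charpoly_map, ← Matrix.charpoly_toLin'] at hr
      refine H877.PQ.pow_of_mem_roots ?_ hr
      rw [← Matrix.toLin'_pow, ← RingHom.mapMatrix_apply, ← map_pow, ← Units.val_pow_eq_pow_val, hx, Units.val_one,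
        map_one, Matrix.toLin'_one]
      rfl

variable {n : ℕ} {B : GL (Fin n) (ZMod 2) → ℂ}

/-- an invariant form -/
theorem Lift.inv (hB : Lift B) {J Ji : Matrix (Fin n) (Fin n) (ZMod 2)} (hJ : J * Ji = 1) {x : GL (Fin n) (ZMod 2)}
    (h : x * J * (x : Matrix (Fin n) (Fin n) (ZMod 2)).transpose = J) : B x⁻¹ = B x := by
  refine hB.cp _ _ ?_
  have h1 : ((x⁻¹ : GL (Fin n) (ZMod 2)) : Matrix (Fin n) (Fin n) (ZMod 2)) =
      J * ((x : Matrix (Fin n) (Fin n) (ZMod 2)).transpose * Ji) := by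
    rw [← mul_one (x⁻¹ : GL (Fin n) (ZMod 2)).1, ← hJ]
    nth_rewrite 1 [← h]
    simp only [← mul_assoc, Units.inv_mul, one_mul]
  rw [h1, Matrix.charpoly_mul_comm, mul_assoc, mul_eq_one_comm.1 hJ, mul_one, Matrix.charpoly_transpose]

/-- the values at the elements of the orders `9`, `15`, `21` -/
theorem Lift.val (hB : Lift B) {x : GL (Fin n) (ZMod 2)} (hi : ∀ k, B (x ^ k)⁻¹ = B (x ^ k)) {q : ℕ}
    (hq : q = 3 ∨ q = 5 ∨ q = 7) (hx : x ^ (3 * q) = 1) :
    (if q = 3 then 6 else 2 * q - 2 : ℂ) * B x + (if q = 3 then 0 else q - 1 : ℂ) * B (x ^ 3) =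
      3 * (q * ((n : ℂ) - rk 1 x) - (n - rk 1 (x ^ q))) := by
  have h2 : ∀ k l, l = k * 2 → B (x ^ l) = B (x ^ k) := fun k l h => by rw [h, pow_mul, hB.sq]
  have h3 : ∀ k l, k + l = 3 * q → B (x ^ l) = B (x ^ k) := fun k l h => by
    rw [← hi k, eq_inv_of_mul_eq_one_right ((pow_add x k l).symm.trans (h ▸ hx))]
  have h4 := hB.sum (x ^ q) 3 (by decide) (by rw [← pow_mul, mul_comm, hx])
  have h5 := hB.sum x (3 * q) (by rcases hq with rfl | rfl | rfl <;> decide) hx
  have h6 : B x = B (x ^ 1) := by rw [pow_one]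
  simp only [← pow_mul] at h4
  rcases hq with rfl | rfl | rfl <;>
    simp only [Nat.reduceMul, Finset.sum_range_succ, Finset.sum_range_zero] at h4 h5 <;> norm_num [-pow_one, -pow_zero]
  · rw [h3 2 7 rfl, h3 4 5 rfl, h2 4 8 rfl, h2 2 4 rfl, h2 1 2 rfl, ← h6] at h5
    push_cast at h4 h5
    linear_combination h5 - h4
  · rw [h3 1 14 rfl, h3 2 13 rfl, h3 4 11 rfl, h3 8 7 rfl, h2 4 8 rfl, h2 2 4 rfl, h2 1 2 rfl, ← h6, h3 6 9 rfl,
      h2 6 12 rfl, h2 3 6 rfl] at h5
    push_cast at h4 h5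
    linear_combination h5 - h4
  · rw [h3 1 20 rfl, h3 2 19 rfl, h3 4 17 rfl, h3 8 13 rfl, h3 10 11 rfl, h2 5 10 rfl, h3 16 5 rfl, h2 8 16 rfl,
      h2 4 8 rfl, h2 2 4 rfl, h2 1 2 rfl, ← h6, h3 3 18 rfl, h3 6 15 rfl, h3 12 9 rfl, h2 6 12 rfl, h2 3 6 rfl] at h5
    push_cast at h4 h5
    linear_combination h5 - h4

end Cfsg.Agent.TAB.Cov
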