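import Cfsg.Agent.TAB.F22.Fam
import Cfsg.Agent.TAB.F22.CovL
import Cfsg.Agent.TAB.F22.CovBD

/-!
# The Brauer lift of the module of dimension 54 of `3.Fi22` (helper31, TAB)

* `Md X` : a triple cover with its module; `mdK : Md K3`;
* `be M B w x` : the component of the lift for the central character `w⁻¹`; `be_val` : its values.
-/

set_option autoImplicit false
set_option maxRecDepth 100000
set_option exponentiation.threshold 5000
set_option maxHeartbeats 400000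

namespace Cfsg.Agent.TAB.F22.Cv

open Cfsg Cfsg.Spor Cfsg.Agent.TAB.Cov Cfsg.Agent.H860.Rank
open Cfsg.Agent.Lib Cfsg.Agent.Lib.F2Mat Cfsg.Agent.Lib.F2MatGroup
open Cfsg.Agent.TAB.Eng (allL allL_spec)
open Cfsg.Agent.H494.F22 (rho rho_injective tau_inv tau_sq sw)
open Cfsg.Agent.H123.Cls.FiDat (gn el el_cons)
open Cfsg.Agent.H922.QS.FiThree (mS)

theorem sym_spec {A : ℕ} (h : symB A = true) : (toMat 54 A).transpose = toMat 54 A := by
  ext i j
  rw [symB, force_eq] at h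
  rw [Matrix.transpose_apply, toMat_apply, toMat_apply,
    beq_iff_eq.1 (allL_spec (allL_spec h i (List.mem_range.2 i.2)) j (List.mem_range.2 j.2))]

/-- the invariance of a form -/
def Inv {n : ℕ} (J : Matrix (Fin n) (Fin n) (ZMod 2)) (x : GL (Fin n) (ZMod 2)) : Prop :=
  x * J * (x : Matrix (Fin n) (Fin n) (ZMod 2)).transpose = J

theorem inv_closure {n : ℕ} {J : Matrix (Fin n) (Fin n) (ZMod 2)} {S : Set (GL (Fin n) (ZMod 2))}
    (h : ∀ g ∈ S, Inv J g) {x : GL (Fin n) (ZMod 2)} (hx : x ∈ Subgroup.closure S) : Inv J x := by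
  unfold Inv at *
  induction hx using Subgroup.closure_induction with
  | mem g hg => exact h g hg
  | one => simp
  | mul g h _ _ hg hh =>
    rw [Units.val_mul, Matrix.transpose_mul]
    conv_rhs => rw [← hg, ← hh]
    simp only [mul_assoc]
  | inv g _ hg =>
    nth_rewrite 1 [← hg]
    rw [mul_assoc, mul_assoc, ← Matrix.transpose_mul, Units.inv_mul, Matrix.transpose_one, mul_one, ← mul_assoc,
      Units.inv_mul, one_mul]

theorem inv_gen {g : GL (Fin 54) (ZMod 2)} {i : ℕ} (hi : i < 9) (h : Codes 54 g (mg i)) : Inv (toMat 54 mJ) g := by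
  obtain ⟨h2, h3⟩ := form_chk.2.2 i hi
  have h4 := sym_spec h2
  rw [toMat_mul, Matrix.transpose_mul, sym_spec form_chk.1] at h4
  rw [Inv, h, mul_assoc, h4, ← toMat_mul, ← toMat_mul, Nat.eq_of_beq_eq_true h3]

/-- a triple cover with its module -/
structure Md (X : Type) [Group X] where
  ρ : X →* GL (Fin 54) (ZMod 2)
  π : X →* Spor.Fi22
  z : X
  g : ℕ → X
  inj : Function.Injective ρ
  comm : ∀ x, z * x = x * z
  cube : z ^ 3 = 1
  surj : Function.Surjective π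
  ker : π.ker = Subgroup.zpowers z
  card : Nat.card π.ker = 3
  cz : Codes 54 (ρ z) mS
  cg : ∀ i, Codes 54 (ρ (g i)) (mg i)
  pg : ∀ i, π (g i) = PresentedGroup.of (gn i)
  form : ∀ x, Inv (toMat 54 mJ) (ρ x)

open Cfsg.Agent.H922.QS.FiThree in
/-- the model -/
noncomputable def mdK : Md K3 where
  ρ := (Subgroup.closure (Set.range H52.ThreeFi22.u)).subtype
  π := pi3
  z := om3
  g i := x3 (gn i)
  inj := Subtype.val_injective
  comm := om3_comm
  cube := om3_cube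
  surj := pce3.surj
  ker := ker3
  card := card_ker3
  cz := codes_om3
  cg i := codes_x3 (gn i)
  pg i := pi3_x (gn i)
  form x := inv_closure (by
    rintro _ ⟨i, rfl⟩
    refine inv_gen i.2 ?_
    have h1 : ∀ i : Fin 9, KFacts.MulEven.Fi22.idx (gn i) = i := by decide
    have h2 := codes_x3 (gn i)
    rw [x3, h1] at h2
    exact h2) x.2

variable {X : Type} [Group X] (M : Md X) {B : GL (Fin 54) (ZMod 2) → ℂ}

theorem lift_inv (hB : Lift B) (x : X) : B (M.ρ x)⁻¹ = B (M.ρ x) :=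
  hB.inv (Ji := toMat 54 mJi) (by rw [← toMat_mul, Nat.eq_of_beq_eq_true form_chk.2.1, toMat_one]) (M.form x)

/-- the lift of a word -/
def lw (w : List ℕ) : X := (w.map M.g).prod

theorem codes_lw : ∀ w : List ℕ, Codes 54 (M.ρ (lw M w)) (mw w)
  | [] => by
    rw [lw, List.map_nil, List.prod_nil, map_one]
    exact Codes.one 54
  | x :: w => by
    rw [lw, List.map_cons, List.prod_cons, map_mul]
    exact (M.cg x).mul (codes_lw w)

theorem pi_lw : ∀ w : List ℕ, M.π (lw M w) = el w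
  | [] => map_one M.π
  | x :: w => by
    rw [lw, List.map_cons, List.prod_cons, map_mul, el_cons, M.pg]
    exact congrArg _ (pi_lw w)

theorem chk1_spec (hB : Lift B) {x : X} {A q : ℕ} {a e : RC} (hq : q = 3 ∨ q = 5 ∨ q = 7)
    (hx : Codes 54 (M.ρ x) A) (h : chk1 A q a e = true) :
    (if q = 3 then 6 else 2 * q - 2 : ℂ) * B (M.ρ x) + (if q = 3 then 0 else q - 1 : ℂ) * B (M.ρ (x ^ 3)) =
      3 * (fv q a e : ℤ) := by
  simp only [chk1, force_eq, rcOk, Bool.and_eq_true, Nat.ble_eq] at h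
  obtain ⟨⟨h1, h2, h3⟩, h4, h5⟩ := h
  have h6 := hB.val (fun k => map_pow M.ρ x k ▸ lift_inv M hB (x ^ k)) hq ((hx.pow _).eq_one h1)
  rw [rk_eq hx h2 h3, rk_eq (hx.pow q) h4 h5] at h6
  rw [fv, map_pow]
  push_cast at h6 ⊢
  exact h6

/-- the component of the lift -/
noncomputable def be (B : GL (Fin 54) (ZMod 2) → ℂ) (w : ℂ) (x : X) : ℂ :=
  (B (M.ρ x) + w * B (M.ρ (M.z * x)) + w ^ 2 * B (M.ρ (M.z * (M.z * x)))) / 3

theorem om_pow (x : X) (j k : ℕ) : (M.z ^ j * x) ^ k = M.z ^ (j * k) * x ^ k := by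
  rw [((show Commute M.z x from M.comm x).pow_left j).mul_pow k, pow_mul]

theorem om_pow' (x : X) (k : ℕ) : (M.z * x) ^ k = M.z ^ k * x ^ k := (show Commute M.z x from M.comm x).mul_pow k

theorem om_three (x : X) : M.z * (M.z * (M.z * x)) = x := by
  rw [← mul_assoc, ← mul_assoc, ← pow_three', M.cube, one_mul]

theorem be_word (hB : Lift B) {w : ℂ} (hw : 1 + w + w ^ 2 = 0) {l : List ℕ} {t q : ℕ} {c : RC6}
    (h : chkW l t q c = true) : be M B w (lw M l) = Eng.nth bb t ∧ (¬ 3 ∣ dat.ord t → lw M l ^ 35 = 1) := by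
  simp only [chkW, force_eq, Bool.and_eq_true, Bool.or_eq_true, decide_eq_true_eq] at h
  obtain ⟨⟨⟨⟨⟨⟨h1, h2⟩, h3⟩, h4⟩, h5⟩, hq⟩, h6⟩ := h
  refine ⟨?_, fun h7 => M.inj ?_⟩
  · have e1 := chk1_spec M hB hq (codes_lw M l) h1
    have e2 := chk1_spec M hB (x := M.z * lw M l) hq (map_mul M.ρ _ _ ▸ M.cz.mul (codes_lw M l)) h2
    have e3 := chk1_spec M hB (x := M.z * (M.z * lw M l)) hq
      (by rw [map_mul, map_mul]; exact M.cz.mul (M.cz.mul (codes_lw M l))) h3
    simp only [om_pow', M.cube, one_mul] at e2 e3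
    rw [← h4] at e3
    have e4 := congrArg (Int.cast : ℤ → ℂ) h5
    have e5 : (if q = 3 then 6 else 2 * q - 2 : ℂ) ≠ 0 := by rcases hq with rfl | rfl | rfl <;> norm_num
    push_cast at e4
    refine mul_left_cancel₀ e5 ?_
    rw [be]
    linear_combination e1 / 3 + w * e2 / 3 + w ^ 2 * e3 / 3 + e4 +
      ((fv q c.a1 c.e1 : ℂ) - (if q = 3 then 0 else q - 1 : ℂ) * B (M.ρ (lw M l ^ 3)) / 3) * hw
  · rw [map_pow, map_one]
    exact ((codes_lw M l).pow 35).eq_one (h6.resolve_left h7)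

theorem be_om {w : ℂ} (hw : w ^ 3 = 1) (x : X) : w * be M B w (M.z * x) = be M B w x := by
  rw [be, be, om_three]
  linear_combination B (M.ρ x) / 3 * hw

theorem be_om_pow {w : ℂ} (hw : w ^ 3 = 1) (x : X) (j : ℕ) : w ^ j * be M B w (M.z ^ j * x) = be M B w x := by
  induction j with
  | zero => rw [pow_zero, pow_zero, one_mul, one_mul]
  | succ j ih => rw [pow_succ, pow_succ' M.z, mul_assoc, mul_assoc, be_om M hw, ih]

theorem be_four (hB : Lift B) (w : ℂ) (x : X) : be M B w (x ^ 4) = be M B w x := by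
  have h1 : ∀ y : X, B (M.ρ (y ^ 4)) = B (M.ρ y) := fun y => by
    rw [map_pow, show 4 = 2 * 2 from rfl, pow_mul, hB.sq, hB.sq]
  have h2 : ∀ y : X, M.z * y ^ 4 = (M.z * y) ^ 4 := fun y => by rw [om_pow', pow_succ M.z, M.cube, one_mul]
  rw [be, be, h2, h2, h1, h1, h1]

theorem be_conj (hB : Lift B) (w : ℂ) (c x : X) : be M B w (c * x * c⁻¹) = be M B w x := by
  have h1 : ∀ y : X, B (M.ρ (c * y * c⁻¹)) = B (M.ρ y) := fun y => by
    rw [map_mul, map_mul, map_inv]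
    refine hB.cp _ _ ?_
    rw [Units.val_mul, Matrix.charpoly_mul_comm, Units.val_mul, Units.inv_mul_cancel_left]
  have h2 : ∀ y : X, M.z * (c * y * c⁻¹) = c * (M.z * y) * c⁻¹ := fun y => by
    rw [← mul_assoc, ← mul_assoc, M.comm c, mul_assoc c]
  rw [be, be, h2, h2, h1, h1, h1]

theorem exists_om [Finite X] {x y : X} (h : M.π x = M.π y) : ∃ j : ℕ, x = M.z ^ j * y := by
  have h1 : x * y⁻¹ ∈ Subgroup.zpowers M.z := by
    rw [← M.ker, MonoidHom.mem_ker, map_mul, map_inv, h, mul_inv_cancel]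
  obtain ⟨j, hj⟩ := (Submonoid.mem_powers_iff _ _).1 (mem_powers_iff_mem_zpowers.2 h1)
  exact ⟨j, by rw [hj, inv_mul_cancel_right]⟩

theorem exists_word (g : Spor.Fi22) : ∃ n : Spor.Fi22, g = n * el (wd (fam g)) * n⁻¹ ∨
    g = n * el ((wd (fam g)).map sw) * n⁻¹ := by
  obtain ⟨hi, b, hb, e⟩ := fam_spec g
  rcases H878.EPX.FiK.A_le hb with ⟨n, hn⟩ | ⟨n, hn⟩
  · exact ⟨n, Or.inl (rho_injective (by rw [map_mul, map_mul, map_inv, hn]; exact e))⟩
  · have h0 := tr_chk _ hi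
    rw [trB, Bool.and_eq_true, Bool.and_eq_true] at h0
    refine ⟨n, Or.inr (rho_injective ?_)⟩
    rw [map_mul, map_mul, map_inv, hn, rho_sw _ fun x hx => Nat.blt_eq.mp (allL_spec h0.1.1 x hx), mul_inv_rev,
      tau_inv]
    calc rho g = b * (H494.F22.tau * H494.F22.tau) * rho (rp (fam g)) * (H494.F22.tau * H494.F22.tau) * b⁻¹ := by
          rw [tau_sq, mul_one, mul_one, ← e]
      _ = _ := by rw [rp]; group

/-- **the values of the component** -/
theorem be_val [Finite X] (hB : Lift B) {w : ℂ} (hw : 1 + w + w ^ 2 = 0) (x : X) (hx : ty (M.π x) ∉ [35, 46, 55]) :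
    (∃ j : ℕ, w ^ j * be M B w x = Eng.nth bb (ty (M.π x))) ∧
      (¬ 3 ∣ dat.ord (ty (M.π x)) → x ^ 80080 = 1 → be M B w x = Eng.nth bb (ty (M.π x))) := by
  have hw3 : w ^ 3 = 1 := by linear_combination (w - 1) * hw
  obtain ⟨h1, h2, h3⟩ := bb_chk _ (ty_lt _) hx
  obtain ⟨c, hc, h4⟩ := List.mem_map.1 h2
  have h5 := allL_spec LC_chk c hc
  have h6 : ty (M.π (x ^ 16)) = dat.pwf (ty (M.π x)) 16 := by
    rw [map_pow]
    exact td.pow _ _
  rw [h4, ← h6, ← (ty_iff (ty_lt _)).1 rfl, Bool.and_eq_true] at h5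
  rw [← h6] at h1 h3
  have h7 : be M B w x = be M B w (x ^ 16) := by rw [show 16 = 4 * 4 from rfl, pow_mul, be_four M hB, be_four M hB]
  have h12 : x ^ 80080 = (x ^ 16) ^ 5005 := by rw [← pow_mul]
  rw [h12, h7, ← h1]
  generalize x ^ 16 = y at h3 h5 ⊢
  have key : ∀ (l : List ℕ) (n : Spor.Fi22), M.π y = n * el l * n⁻¹ →
      (be M B w (lw M l) = Eng.nth bb (ty (M.π y)) ∧ (¬ 3 ∣ dat.ord (ty (M.π y)) → lw M l ^ 35 = 1)) →
      (∃ j : ℕ, w ^ j * be M B w y = Eng.nth bb (ty (M.π y))) ∧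
        (¬ 3 ∣ dat.ord (ty (M.π x)) → y ^ 5005 = 1 → be M B w y = Eng.nth bb (ty (M.π y))) := by
    rintro l n hn ⟨h8, h9⟩
    obtain ⟨m, rfl⟩ := M.surj n
    rw [← pi_lw M, ← map_inv, ← map_mul, ← map_mul] at hn
    obtain ⟨j, hj⟩ := exists_om M hn
    rw [← h8]
    refine ⟨⟨j, by rw [hj, be_om_pow M hw3, be_conj M hB]⟩, fun h10 h11 => ?_⟩
    have h13 : lw M l ^ 5005 = 1 := by rw [show 5005 = 35 * 143 from rfl, pow_mul, h9 fun h => h10 (h3 h), one_pow]
    have h14 : M.z ^ (j * 5005) = M.z ^ j := by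
      rw [show j * 5005 = 3 * (1668 * j) + j by ring, pow_add, pow_mul, M.cube, one_pow, one_mul]
    rw [hj, om_pow, conj_pow, h13, mul_one, mul_inv_cancel, mul_one, h14] at h11
    rw [hj, h11, one_mul, be_conj M hB]
  obtain ⟨n, hn | hn⟩ := exists_word (M.π y)
  · exact key _ n hn (be_word M hB hw h5.1)
  · exact key _ n hn (be_word M hB hw h5.2)

end Cfsg.Agent.TAB.F22.Cv
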