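import Cfsg.Agent.TAB.F22.Main
import Cfsg.Agent.TAB.F22.CovB
import Cfsg.Agent.TAB.F22.CovE
import Cfsg.Agent.TAB.Suz.Tool
import Cfsg.Agent.ODD.Cov.Basic
import Cfsg.Agent.ODD.Red.Bas
import Cfsg.Agent.H133.FibPce
import Cfsg.Agent.S2053

/-!
# The characters of odd degree of `3.Fi22` are `2`-rational (helper31, TAB)

Let `ψ` be faithful and moved by `τ`.  The function `hh` built from `ψ + τ ψ` has norm at most `2` and integral
pairings with a lattice of rank `39`; the enumeration of the short vectors of the dual lattice shows that the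
degree of `ψ` is even.
-/

set_option autoImplicit false
set_option maxRecDepth 100000
set_option exponentiation.threshold 5000
set_option maxHeartbeats 400000

namespace Cfsg.Agent.TAB.F22.Cv

open Cfsg Cfsg.Agent.TAB.Cov Cfsg.Agent.TAB.Eng Cfsg.Agent.ODD.Red Cfsg.Agent.Characters Cfsg.Agent.Characters.Core
open Cfsg.Agent.Characters.Brauer Cfsg.Agent.H139.Cusp
open scoped ComplexConjugate

variable {X : Type} [Group X] [Fintype X]

theorem sum_int {f : X → ℂ} (hf : IsGeneralizedCharacter X f) : ∃ a : ℤ, ∑ x, f x = Nat.card X * a := by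
  obtain ⟨a, ha⟩ := H447.CTab.exists_mu hf ⟨1, isIrr_one⟩
  refine ⟨a, ?_⟩
  rw [classInner_def, inv_mul_eq_iff_eq_mul₀ card_ne_zero_complex] at ha
  simpa using ha

theorem sum_two {f : X → ℂ} (hf : IsGeneralizedCharacter X f) (τ : ℂ ≃+* ℂ) :
    ∃ a : ℤ, ∑ x, (f x + τ (f x)) = 2 * Nat.card X * a := by
  obtain ⟨a, ha⟩ := sum_int hf
  refine ⟨a, ?_⟩
  rw [Finset.sum_add_distrib, ← map_sum, ha, map_mul, map_natCast, map_intCast]
  ring

theorem norm_two {ψ φ : X → ℂ} (hψ : IsIrrCharacter X ψ) (hφ : IsIrrCharacter X φ) (h : ψ ≠ φ) :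
    ∑ x, Complex.normSq (ψ x + φ x) = 2 * Nat.card X := by
  have h1 := classInner_self_eq_ofReal (ψ + φ)
  rw [classInner_add_left, classInner_add_right, classInner_add_right, classInner_irr_self hψ, classInner_irr_self hφ,
    classInner_irr_ne hψ hφ h, classInner_irr_ne hφ hψ h.symm] at h1
  have h2 : (2 : ℝ) = (Nat.card X : ℝ)⁻¹ * ∑ x, Complex.normSq (ψ x + φ x) := by
    apply Complex.ofReal_injective
    exact Eq.trans (by norm_num) h1
  rw [h2, mul_right_comm, inv_mul_cancel₀ (by exact_mod_cast Nat.card_pos.ne'), one_mul]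

variable (M : Md X)

theorem sum_pi (F : ℕ → ℝ) : ∑ x, F (ty (M.π x)) = 3 * ∑ t ∈ Finset.range 59, dat.cnt t * F t := by
  classical
  have := fin22
  have := Fintype.ofFinite Spor.Fi22
  have h1 : ∀ g, (Finset.univ.filter fun x => M.π x = g).card = 3 := fun g => by
    rw [MonoidHom.card_fiber_eq_of_mem_range M.π (M.surj g) (M.surj 1), ← M.card, Nat.card_eq_fintype_card,
      Fintype.card_subtype]
    exact congrArg Finset.card (Finset.filter_congr fun x _ => MonoidHom.mem_ker.symm)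
  have h2 := sum_mass mass F
  simp only [nsmul_eq_mul] at h2
  rw [← Finset.sum_fiberwise (s := Finset.univ) (g := M.π), show Finset.range 59 = Finset.range dat.n from rfl, ← h2,
    Finset.mul_sum]
  refine Finset.sum_congr rfl fun g _ => ?_
  rw [Finset.sum_congr rfl (g := fun _ => F (ty g)) fun x hx => by rw [(Finset.mem_filter.1 hx).2], Finset.sum_const,
    h1, nsmul_eq_mul, Nat.cast_ofNat, td_ty]

theorem sum_ip (v w : List ℤ) : ∑ x, (nth v (ty (M.π x)) : ℝ) * nth w (ty (M.π x)) = 3 * ip dat v w := by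
  rw [sum_pi M fun t => (nth v t : ℝ) * nth w t, ip, ipL_eq]
  push_cast
  rfl

theorem sum_ind {t : ℕ} (ht : t < 59) (c : ℝ) : ∑ x, (if ty (M.π x) = t then c else 0) = 3 * dat.cnt t * c := by
  rw [sum_pi M fun s => if s = t then c else 0]
  simp only [mul_ite, mul_zero, Finset.sum_ite_eq', Finset.mem_range, ht, if_true, mul_assoc]

include M in
theorem card_cov : Nat.card X = 3 * dat.N := by
  have h1 := sum_pi M fun _ => 1
  have h2 : ∑ t ∈ Finset.range 59, dat.cnt t = dat.N := by decide +kernel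
  simp only [mul_one, Finset.sum_const, Finset.card_univ, nsmul_eq_mul] at h1
  rw [← h2, Nat.card_eq_fintype_card]
  exact_mod_cast h1

omit [Fintype X] in
theorem pow_ord (x : X) {m : ℕ} (h : dat.ord (ty (M.π x)) ∣ m) : M.π (x ^ m) = 1 := by
  rw [map_pow, ← orderOf_dvd_iff_pow_eq_one, ty_ord]
  exact h

theorem pow_ord' (x : X) {m : ℕ} (h : dat.ord (ty (M.π x)) ∣ m) : x ^ (m * 3) = 1 := by
  obtain ⟨j, hj⟩ := exists_om M ((pow_ord M x h).trans (map_one M.π).symm)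
  rw [pow_mul, hj, mul_one, ← pow_mul, mul_comm, pow_mul, M.cube, one_pow]

theorem reg_lift (x : X) (h : ¬ 3 ∣ dat.ord (ty (M.π x))) :
    (∃ j : ℕ, x ^ 160161 = M.z ^ j * x) ∧ M.π (x ^ 160161) = M.π x ∧ (x ^ 160161) ^ 80080 = 1 := by
  have h1 : ∀ t < 59, ¬ 3 ∣ dat.ord t → dat.ord t ∣ 80080 := by decide +kernel
  have h2 := h1 _ (ty_lt _) h
  have h3 : M.π (x ^ 160161) = M.π x := by
    rw [show 160161 = 80080 * 2 + 1 from rfl, pow_succ, map_mul, pow_ord M x (h2.mul_right 2), one_mul]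
  refine ⟨exists_om M h3, h3, ?_⟩
  rw [← pow_mul, show 160161 * 80080 = 80080 * 3 * 53387 from rfl, pow_mul, pow_ord' M x h2, one_pow]

theorem virt_rows : ∀ r ∈ rowA ++ rowB, Virt td (nth r) :=
  haveI := fin22
  Sz.slp mass rfl hom ops virt_seeds ix ops_chk

omit [Fintype X] in
theorem gen_pi {f : ℕ → ℤ} (h : Virt td f) : IsGeneralizedCharacter X fun x => (f (ty (M.π x)) : ℂ) :=
  isGeneralizedCharacter_comp M.π h

/-- the function on the cover -/
noncomputable def hh (B : GL (Fin 54) (ZMod 2) → ℂ) (w : ℂ) (Ψ : X → ℂ) (x : X) : ℂ :=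
  if 3 ∣ dat.ord (ty (M.π x)) then Ψ x * be M B w x / nth bb (ty (M.π x)) else Ψ (x ^ 160161)

variable {B : GL (Fin 54) (ZMod 2) → ℂ} {w : ℂ} {Ψ : X → ℂ}

omit [Fintype X] in
theorem om_val (hz : ∀ x, Ψ (M.z * x) = w * Ψ x) (j : ℕ) (x : X) : Ψ (M.z ^ j * x) = w ^ j * Ψ x := by
  induction j with
  | zero => rw [pow_zero, pow_zero, one_mul, one_mul]
  | succ j ih => rw [pow_succ' M.z, mul_assoc, hz, ih, pow_succ', mul_assoc]

theorem good_of_dvd {t : ℕ} (h : 3 ∣ dat.ord t) : t ∉ [35, 46, 55] := by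
  intro h1
  simp only [List.mem_cons, List.not_mem_nil, or_false] at h1
  rcases h1 with rfl | rfl | rfl <;> revert h <;> decide +kernel

theorem hh_le (hB : Lift B) (hw : 1 + w + w ^ 2 = 0) (hz : ∀ x, Ψ (M.z * x) = w * Ψ x) (x : X) :
    Complex.normSq (hh M B w Ψ x) ≤ Complex.normSq (Ψ x) := by
  have hw3 : w ^ 3 = 1 := by linear_combination (w - 1) * hw
  have h1 : Complex.normSq w = 1 := by
    rw [Complex.normSq_eq_norm_sq, Complex.norm_eq_one_of_pow_eq_one hw3 three_ne_zero, one_pow]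
  rw [hh]
  split_ifs with h
  · obtain ⟨j, hj⟩ := (be_val M hB hw x (good_of_dvd h)).1
    rw [← hj, map_div₀, map_mul, map_mul, map_pow, h1, one_pow, one_mul, mul_div_assoc]
    exact mul_le_of_le_one_right (Complex.normSq_nonneg _) (div_self_le_one _)
  · obtain ⟨j, hj⟩ := (reg_lift M x h).1
    rw [hj, om_val M hz, map_mul, map_pow, h1, one_pow, one_mul]

theorem hh_mul (hB : Lift B) (hw : 1 + w + w ^ 2 = 0) (hz : ∀ x, Ψ (M.z * x) = w * Ψ x) (x : X)
    (hx : ty (M.π x) ∉ [35, 46, 55]) : hh M B w Ψ x * nth bb (ty (M.π x)) = Ψ x * be M B w x := by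
  have hw3 : w ^ 3 = 1 := by linear_combination (w - 1) * hw
  rw [hh]
  split_ifs with h
  · by_cases h0 : (nth bb (ty (M.π x)) : ℂ) = 0
    · obtain ⟨j, hj⟩ := (be_val M hB hw x hx).1
      have h1 : w ≠ 0 := fun h2 => by simp [h2] at hw
      rw [h0] at hj
      rw [h0, (mul_eq_zero.1 hj).resolve_left (pow_ne_zero j h1), mul_zero, mul_zero]
    · exact div_mul_cancel₀ _ h0
  · obtain ⟨⟨j, hj⟩, h2, h3⟩ := reg_lift M x h
    have h4 := (be_val M hB hw (x ^ 160161) (h2 ▸ hx)).2 (h2 ▸ h) h3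
    rw [h2] at h4
    rw [← h4, hj, om_val M hz, ← be_om_pow M hw3 x j]
    ring

theorem sum_be (hz : ∀ x, Ψ (M.z * x) = w * Ψ x) (F : ℕ → ℂ) :
    ∑ x, Ψ x * be M B w x * F (ty (M.π x)) = ∑ x, Ψ x * B (M.ρ x) * F (ty (M.π x)) := by
  have h1 : ∀ x, M.π (M.z * x) = M.π x := fun x => by
    rw [map_mul, show M.π M.z = 1 from (M.ker ▸ Subgroup.mem_zpowers M.z : M.z ∈ M.π.ker), one_mul]
  have h2 := Equiv.sum_comp (Equiv.mulLeft M.z) fun x => Ψ x * B (M.ρ x) * F (ty (M.π x))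
  have h3 := Equiv.sum_comp (Equiv.mulLeft M.z) fun x => Ψ (M.z * x) * B (M.ρ (M.z * x)) * F (ty (M.π (M.z * x)))
  simp only [Equiv.coe_mulLeft, hz, h1] at h2 h3
  have h4 : ∀ x, Ψ x * be M B w x * F (ty (M.π x)) = (Ψ x * B (M.ρ x) * F (ty (M.π x)) +
      w * Ψ x * B (M.ρ (M.z * x)) * F (ty (M.π x)) +
        w * (w * Ψ x) * B (M.ρ (M.z * (M.z * x))) * F (ty (M.π x))) / 3 := fun x => by
    rw [be]
    ring
  simp only [h4, ← Finset.sum_div, Finset.sum_add_distrib, h3, h2]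
  ring

variable {ψ : X → ℂ} {τ : ℂ ≃+* ℂ}

theorem pair_K (hψ : IsCharacter X ψ) {k : List ℤ} (hk : Virt td (nth k))
    (h0 : ∀ t < 59, 3 ∣ dat.ord t → nth k t = 0) :
    ∃ a : ℤ, ∑ x, hh M B w (fun x => ψ x + τ (ψ x)) x * nth k (ty (M.π x)) = 2 * Nat.card X * a := by
  obtain ⟨a, ha⟩ := sum_two (isGeneralizedCharacter_mul
    (isGeneralizedCharacter_pow (isGeneralizedCharacter_of_isCharacter hψ) 160161) (gen_pi M hk)) τ
  refine ⟨a, ha ▸ Finset.sum_congr rfl fun x _ => ?_⟩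
  simp only [hh, Pi.mul_apply, map_mul, map_intCast]
  split_ifs with h
  · simp [h0 _ (ty_lt _) h]
  · ring

theorem pair_E (hB : Lift B) (hw : 1 + w + w ^ 2 = 0) (hψ : IsCharacter X ψ) (hτ : Two τ)
    (hz : ∀ x, ψ (M.z * x) + τ (ψ (M.z * x)) = w * (ψ x + τ (ψ x))) {e : List ℤ} (he : Virt td (nth e))
    (h0 : ∀ t < 59, t ∈ [35, 46, 55] → nth e t = 0) :
    ∃ a : ℤ, ∑ x, hh M B w (fun x => ψ x + τ (ψ x)) x * (nth bb (ty (M.π x)) * nth e (ty (M.π x))) =
      2 * Nat.card X * a := by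
  obtain ⟨a, ha⟩ := sum_two (isGeneralizedCharacter_mul (isGeneralizedCharacter_mul
    (isGeneralizedCharacter_of_isCharacter hψ) (isGeneralizedCharacter_comp M.ρ hB.gen)) (gen_pi M he)) τ
  refine ⟨a, ?_⟩
  simp only [Pi.mul_apply, map_mul, map_intCast, hB.two τ hτ, ← add_mul] at ha
  rw [← ha, ← sum_be M (Ψ := fun x => ψ x + τ (ψ x)) hz fun t => nth e t]
  refine Finset.sum_congr rfl fun x _ => ?_
  by_cases h : ty (M.π x) ∈ [35, 46, 55]
  · simp [h0 _ (ty_lt _) h]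
  · rw [← mul_assoc, hh_mul M hB hw hz x h]

theorem pair_lv (hB : Lift B) (hw : 1 + w + w ^ 2 = 0) (hψ : IsCharacter X ψ) (hτ : Two τ)
    (hz : ∀ x, ψ (M.z * x) + τ (ψ (M.z * x)) = w * (ψ x + τ (ψ x))) : ∀ l ∈ lv, ∃ a : ℤ,
      ∑ x, (hh M B w (fun x => ψ x + τ (ψ x)) x).re * nth l.v (ty (M.π x)) = 2 * 3 * dat.N * a := by
  intro l hl
  obtain ⟨c, hc, rfl⟩ := List.mem_map.1 hl
  have h1 := allL_spec lc_chk c hc
  rw [okV, frL_eq, frL_eq] at h1
  have h2 := fun t (ht : t < 59) => allL_spec h1 t (List.mem_range.2 ht)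
  simp only [Bool.and_eq_true, decide_eq_true_eq] at h2
  obtain ⟨a, ha⟩ := pair_K M (B := B) (w := w) (τ := τ) hψ (virt_lin c.2.1 virt_rows) fun t ht => (h2 t ht).1.2
  obtain ⟨b, hb⟩ := pair_E M hB hw hψ hτ hz (virt_lin c.2.2 virt_rows) fun t ht => (h2 t ht).2
  refine ⟨a + b, ?_⟩
  have h3 : ∑ x, hh M B w (fun x => ψ x + τ (ψ x)) x * nth c.1.v (ty (M.π x)) =
      ((2 * 3 * dat.N * (a + b : ℤ) : ℝ) : ℂ) := by
    simp only [(h2 _ (ty_lt _)).1.1, Int.cast_add, Int.cast_mul, mul_add, Finset.sum_add_distrib, ha, hb, card_cov M]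
    push_cast
    ring
  have h4 := congrArg Complex.re h3
  rw [Complex.re_sum, Complex.ofReal_re] at h4
  simpa only [Complex.mul_re, Complex.intCast_re, Complex.intCast_im, mul_zero, sub_zero] using h4

/-- the elements of order `11` cost energy if the mean value is odd -/
theorem penalty {H : X → ℂ} {a m : ℤ} (hm : m % 2 = 1)
    (h1 : ∑ x, (H x).re * ((if ty (M.π x) = 35 then 22 else 0 : ℤ) : ℝ) = 2 * 3 * dat.N * m)
    (h2 : ∑ x, Complex.normSq (H x) * ((if ty (M.π x) = 35 then 22 else 0 : ℤ) : ℝ) = 4 * 3 * dat.N * a) (W : ℕ → ℝ) :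
    3 * (dat.N : ℝ) ≤ 11 * (∑ x, ((H x).re - W (ty (M.π x))) ^ 2 + ∑ x, (H x).im ^ 2) := by
  have h3 := sum_ind M (t := 35) (by norm_num) 22
  have h4 : (3 : ℝ) * dat.cnt 35 * 22 = 2 * 3 * dat.N := by
    have h5 : 3 * dat.cnt 35 * 22 = 2 * 3 * dat.N := by decide +kernel
    exact_mod_cast h5
  have hN : (0 : ℝ) < dat.N := by
    have h5 : 0 < dat.N := by decide +kernel
    exact_mod_cast h5
  have h5 : ∀ c : ℝ, ∑ x, (if ty (M.π x) = 35 then 22 * (((H x).re - c) ^ 2 + (H x).im ^ 2) else 0) =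
      6 * dat.N * ((c - m) ^ 2 + (2 * a - m ^ 2)) := fun c => by
    have h6 : ∀ x, (if ty (M.π x) = 35 then 22 * (((H x).re - c) ^ 2 + (H x).im ^ 2) else 0) =
        Complex.normSq (H x) * ((if ty (M.π x) = 35 then 22 else 0 : ℤ) : ℝ) -
          2 * c * ((H x).re * ((if ty (M.π x) = 35 then 22 else 0 : ℤ) : ℝ)) +
            c ^ 2 * if ty (M.π x) = 35 then 22 else 0 := fun x => by
      rw [Complex.normSq_apply]
      split_ifs <;> push_cast <;> ring
    simp only [h6, Finset.sum_add_distrib, Finset.sum_sub_distrib, ← Finset.mul_sum, h1, h2, h3, h4]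
    ring
  have h6 : (1 : ℝ) ≤ 2 * a - m ^ 2 := by
    have h7 : 0 ≤ 6 * (dat.N : ℝ) * ((m - m) ^ 2 + (2 * a - m ^ 2)) :=
      h5 m ▸ Finset.sum_nonneg fun x _ => by split_ifs <;> positivity
    have h8 : (0 : ℝ) ≤ 2 * a - m ^ 2 := by simpa using nonneg_of_mul_nonneg_right h7 (by positivity)
    have h9 : (0 : ℤ) ≤ 2 * a - m ^ 2 := by exact_mod_cast h8
    have h10 : m ^ 2 % 2 = 1 := by rw [sq, Int.mul_emod, hm]; rfl
    exact_mod_cast (by omega : (1 : ℤ) ≤ 2 * a - m ^ 2)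
  have h7 : ∑ x, (if ty (M.π x) = 35 then 22 * (((H x).re - W 35) ^ 2 + (H x).im ^ 2) else 0) ≤
      ∑ x, 22 * (((H x).re - W (ty (M.π x))) ^ 2 + (H x).im ^ 2) := Finset.sum_le_sum fun x _ => by
    split_ifs with h
    · rw [h]
    · positivity
  rw [h5, ← Finset.mul_sum, Finset.sum_add_distrib] at h7
  nlinarith [sq_nonneg (W 35 - m), mul_le_mul_of_nonneg_left h6 hN.le, mul_nonneg hN.le (sq_nonneg (W 35 - m))]

theorem sq_int (hψ : IsCharacter X ψ) (hτ : Two τ) : ∃ a : ℤ, ∑ x, Complex.normSq (hh M B w (fun x => ψ x + τ (ψ x)) x) *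
    ((if ty (M.π x) = 35 then 22 else 0 : ℤ) : ℝ) = 4 * 3 * dat.N * a := by
  obtain ⟨a, ha⟩ := sum_int (isGeneralizedCharacter_mul (isGeneralizedCharacter_pow
    (isGeneralizedCharacter_of_isCharacter (isCharacter_mul hψ (isCharacter_conj hψ))) 160161)
      (gen_pi M (virt_lin cF virt_rows)))
  refine ⟨a, Complex.ofReal_injective ?_⟩
  rw [card_cov M] at ha
  push_cast at ha ⊢
  rw [mul_assoc 4, mul_assoc 4, ← ha, Finset.mul_sum]
  refine Finset.sum_congr rfl fun x _ => ?_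
  simp only [Pi.mul_apply, cF_chk _ (ty_lt _), Complex.mul_conj]
  split_ifs with h
  · have h1 : dat.ord (ty (M.π x)) = 11 := by rw [h]; rfl
    have h2 : (x ^ 160161) ^ (2 * 33) = 1 := by
      rw [← pow_mul, show 160161 * (2 * 33) = 11 * 3 * 320322 from rfl, pow_mul, pow_ord' M x h1.dvd, one_pow]
    rw [hh, if_neg (by rw [h1]; decide), Sz.two_fix_char hτ hψ (by decide) h2, ← two_mul, map_mul,
      Complex.normSq_ofNat]
    push_cast
    ring
  · simp

theorem deg_sum (hψ : IsCharacter X ψ) : ∑ x, (hh M B w (fun x => ψ x + τ (ψ x)) x).re *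
    ((if ty (M.π x) = 0 then (dat.N : ℤ) else 0 : ℤ) : ℝ) = 2 * 3 * dat.N * charDegree ψ := by
  have h1 := sum_ind M (t := 0) (by norm_num) (2 * dat.N * charDegree ψ)
  rw [show dat.cnt 0 = 1 from rfl, Nat.cast_one] at h1
  refine Eq.trans (Finset.sum_congr rfl fun x _ => ?_) (h1.trans (by ring))
  split_ifs with h
  · have h2 : dat.ord (ty (M.π x)) = 1 := by rw [h]; rfl
    have h3 : x ^ 160161 = 1 := by rw [show 160161 = 1 * 3 * 53387 from rfl, pow_mul, pow_ord' M x h2.dvd, one_pow]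
    rw [hh, if_neg (by rw [h2]; decide), h3, apply_one hψ, map_natCast, Complex.add_re, Complex.natCast_re]
    push_cast
    ring
  · simp

/-- **the faithful characters of odd degree** -/
theorem fix_md (hψ : IsIrrCharacter X ψ) (ho : Odd (charDegree ψ)) (hw : 1 + w + w ^ 2 = 0)
    (hz : ∀ x, ψ (M.z * x) = w * ψ x) (hτ : Two τ) : Fix τ ψ := by
  by_contra hne
  obtain ⟨B, hB⟩ := exists_lift (n := 54) (by norm_num)
  have hc := isIrr_isCharacter hψ
  have hw3 : w ^ 3 = 1 := by linear_combination (w - 1) * hw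
  have hz' : ∀ x, ψ (M.z * x) + τ (ψ (M.z * x)) = w * (ψ x + τ (ψ x)) := fun x => by
    rw [hz, map_mul, hτ 3 w (by decide) hw3, mul_add]
  have h1 := norm_two hψ (GaloisIrr.isIrr_map τ hψ) fun h => hne fun x => (congrFun h x).symm
  have h2 := Finset.sum_le_sum fun x (_ : x ∈ Finset.univ) => hh_le M (Ψ := fun x => ψ x + τ (ψ x)) hB hw hz' x
  rw [h1, card_cov M] at h2
  have h3 := pair_lv M hB hw hc hτ hz'
  obtain ⟨a, h4⟩ := sq_int M (B := B) (w := w) hc hτ
  have h5 := deg_sum M (B := B) (w := w) (τ := τ) hc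
  generalize hh M B w (fun x => ψ x + τ (ψ x)) = H at h2 h3 h4 h5
  have hN : (0 : ℝ) < dat.N := by
    have h5 : 0 < dat.N := by decide +kernel
    exact_mod_cast h5
  obtain ⟨as, bud, W, h6, h7, h8⟩ := bessel_dfs (h := fun x => (H x).re) (I := ∑ x, (H x).im ^ 2) (W := fun _ => 0)
    (by norm_num) (by positivity) (sum_ip M) lv h3 lv_chk dfs_chk List.Forall₂.nil (fun _ _ => by simp) (by
      simp only [Complex.normSq_apply, Finset.sum_add_distrib, ← sq] at h2
      simp only [sub_zero]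
      push_cast at h2 ⊢
      linarith)
  have h9 := pair_lin cd h7
  have h10 := pair_lin cM h7
  simp only [cd_chk _ (ty_lt _)] at h9
  simp only [cM_chk _ (ty_lt _)] at h10
  have h11 : Cov.dot cd as = charDegree ψ := by
    exact_mod_cast mul_left_cancel₀ (by positivity) (h9.symm.trans h5)
  rw [leaf, h11] at h6
  simp only [Bool.or_eq_true, Bool.and_eq_true, decide_eq_true_eq, Nat.blt_eq] at h6
  rcases h6 with h6 | ⟨h6, h12⟩
  · have := Nat.odd_iff.1 ho
    omega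
  · have h13 := penalty M h6 h10 h4 W
    have h14 : (44 * bud : ℝ) < 1000000 := by exact_mod_cast h12
    push_cast at h8
    nlinarith

include M in
theorem oddRat_md : Use.OddRat X := by
  intro ψ hψ ho τ hτ
  obtain ⟨w, h1, h2, -⟩ := ODD.Red.exists_central hψ (z := M.z) (Subgroup.mem_center_iff.2 fun g => (M.comm g).symm)
  by_cases hw : w = 1
  · obtain ⟨η, h3, h4⟩ := exists_quot M.π M.surj hψ fun y hy => by
      obtain ⟨j, rfl⟩ := exists_om M ((MonoidHom.mem_ker.1 hy).trans (map_one M.π).symm)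
      rw [om_val M h1, hw, one_pow, one_mul]
    intro x
    rw [← h4]
    exact odd η h3 (by rwa [charDegree_congr (show η 1 = ψ 1 by rw [← h4, map_one])]) τ hτ _
  · refine fix_md M hψ ho ((mul_eq_zero.1 (show (w - 1) * _ = 0 from ?_)).resolve_left (sub_ne_zero.2 hw)) h1 hτ
    linear_combination h2 3 M.cube

end Cfsg.Agent.TAB.F22.Cv

namespace Cfsg.Agent.TAB.F22

open Cfsg Cfsg.Agent.H922.QS.FiThree Cfsg.Agent.H133.FibPce

/-- **`3.Fi22`** -/
theorem cov : Use.OddRatCov Spor.Fi22 := by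
  intro X _ _ φ h1 h2 h3 h4
  have hφ : H51.Mult.PCE φ := ⟨h1, h2, h4⟩
  have := Fintype.ofFinite K3
  rcases dichotomy hφ pce3 (by rw [card_ker3]; exact Nat.prime_three) (h3.trans card_ker3.symm) with h | ⟨α, -⟩
  · have h5 := pce_fib hφ pce3 h
    have h6 := ODD.Cv.MB.of_cyc S2053.result _ h _ h5.surj h5.cen
    rw [Nat.card_congr (kerFib φ pi3).toEquiv, Nat.card_prod, h3, card_ker3] at h6
    exact absurd h6 (by decide)
  · exact ODD.Cv.oddRat_congr α (Cv.oddRat_md Cv.mdK)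

end Cfsg.Agent.TAB.F22
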