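import Cfsg.Agent.TAB.Eng.Norm

/-!
# Bessel's inequality and the enumeration of short vectors of a dual lattice (helper31, TAB)

A real function `h` has integral pairings `a k` with the vectors `v k` of a list of levels; each level carries the
integral Gram-Schmidt vector `u = p • v k + ∑ r j • v j` of norm `n`.  `dfs` runs through all integral vectors `a`
allowed by Bessel's inequality; `bessel_dfs` is the soundness theorem.
-/

set_option autoImplicit false
set_option maxHeartbeats 400000

namespace Cfsg.Agent.TAB.Cov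

open Cfsg Cfsg.Agent.TAB.Eng

/-- evaluate an integer before passing it on -/
noncomputable def frI {β : Type} (x : ℤ) (f : ℤ → β) : β :=
  Int.rec (fun n => frc n fun m => f (Int.ofNat m)) (fun n => frc n fun m => f (Int.negSucc m)) x

theorem frI_eq {β : Type} (x : ℤ) (f : ℤ → β) : frI x f = f x := by
  cases x with
  | ofNat n => exact frc_eq n fun m => f (Int.ofNat m)
  | negSucc n => exact frc_eq n fun m => f (Int.negSucc m)

/-- evaluate a list of integers before passing it on -/
noncomputable def frL {β : Type} (l : List ℤ) : (List ℤ → β) → β :=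
  List.rec (fun k => k []) (fun a _ ih k => frI a fun a' => ih fun l' => k (a' :: l')) l

theorem frL_eq {β : Type} (l : List ℤ) (k : List ℤ → β) : frL l k = k l := by
  induction l generalizing k with
  | nil => rfl
  | cons a l ih => exact (frI_eq a fun a' => frL l fun l' => k (a' :: l')).trans (ih fun l' => k (a :: l'))

/-- the scalar product -/
noncomputable def dot (r : List ℤ) : List ℤ → ℤ :=
  List.rec (fun _ => 0) (fun a _ ih w => List.rec 0 (fun b w' _ => Int.add (Int.mul a b) (ih w')) w) r

/-- the linear combination -/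
noncomputable def lin (r : List ℤ) : List (List ℤ) → List ℤ :=
  List.rec (fun _ => []) (fun a _ ih w => List.rec [] (fun b w' _ => addL (b.map (Int.mul a)) (ih w')) w) r

theorem nth_lin_cons (a : ℤ) (r v : List ℤ) (vs : List (List ℤ)) (t : ℕ) :
    nth (lin (a :: r) (v :: vs)) t = a * nth v t + nth (lin r vs) t := by
  rw [← nth_map_mul]
  exact nth_addL _ _ t

theorem virt_lin {G : Type*} [Group G] {D : Dat} {T : TD G D} (r : List ℤ) {vs : List (List ℤ)}
    (h : ∀ v ∈ vs, Virt T (nth v)) : Virt T (nth (lin r vs)) := by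
  induction r generalizing vs with
  | nil => exact Virt.const 0
  | cons a r ih => cases vs with
    | nil => exact Virt.const 0
    | cons v vs =>
      rw [funext (nth_lin_cons a r v vs)]
      exact ((h v List.mem_cons_self).smul a).add (ih fun w hw => h w (List.mem_cons_of_mem _ hw))

theorem pair_lin {ι : Type} [Fintype ι] {ty : ι → ℕ} {h : ι → ℝ} {K : ℝ} (r : List ℤ) {vs : List (List ℤ)}
    {as : List ℤ} (H : List.Forall₂ (fun v (a : ℤ) => ∑ x, h x * nth v (ty x) = K * a) vs as) :
    ∑ x, h x * nth (lin r vs) (ty x) = K * dot r as := by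
  induction r generalizing vs as with
  | nil => simp [lin, dot, nth_nil]
  | cons c r ih => cases H with
    | nil => simp [lin, dot, nth_nil]
    | @cons v a vs as h1 h2 =>
      have h3 : dot (c :: r) (a :: as) = c * a + dot r as := rfl
      simp only [nth_lin_cons, h3, Int.cast_add, Int.cast_mul, mul_add, Finset.sum_add_distrib, ih h2,
        mul_left_comm _ (c : ℝ), ← Finset.mul_sum, h1]

/-- a level : the vector, the coefficients of the earlier vectors (the last one first), the pivot, the norm -/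
structure Lev where
  v : List ℤ
  r : List ℤ
  p : ℕ
  n : ℕ

/-- the cost of a coordinate -/
def cost (C n m : ℕ) : ℕ := Nat.div (Nat.mul C (Nat.mul m m)) n

theorem cost_mono (C n : ℕ) {m k : ℕ} (h : m ≤ k) : cost C n m ≤ cost C n k :=
  Nat.div_le_div_right (Nat.mul_le_mul_left C (Nat.mul_le_mul h h))

/-- the loop over one coordinate in one direction -/
noncomputable def scan (f : ℤ → ℕ → Bool) (C n bud : ℕ) (da : ℤ) (p fuel : ℕ) : ℤ → ℕ → Bool :=
  Nat.rec (fun _ _ => false) (fun _ ih a m => frI a fun a => frc m fun m => frc (cost C n m) fun c =>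
    cond (Nat.ble c bud) (frc (Nat.sub bud c) (f a) && ih (Int.add a da) (Nat.add m p)) true) fuel

theorem scan_spec {f : ℤ → ℕ → Bool} {C n bud : ℕ} {da : ℤ} {p fuel : ℕ} {a : ℤ} {m : ℕ}
    (h : scan f C n bud da p fuel a m = true) (i : ℕ) (hi : cost C n (m + i * p) ≤ bud) :
    f (a + i * da) (bud - cost C n (m + i * p)) = true := by
  induction fuel generalizing a m i with
  | zero => cases h
  | succ k ih =>
    have h1 : cond (Nat.ble (cost C n m) bud) (f a (bud - cost C n m) && scan f C n bud da p k (a + da) (m + p))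
        true = true := by
      have h0 : (frI a fun a => frc m fun m => frc (cost C n m) fun c => cond (Nat.ble c bud)
        (frc (Nat.sub bud c) (f a) && scan f C n bud da p k (Int.add a da) (Nat.add m p)) true) = true := h
      simp only [frI_eq, frc_eq] at h0
      exact h0
    rw [Nat.ble_eq_true_of_le ((cost_mono C n (Nat.le_add_right _ _)).trans hi), cond_true, Bool.and_eq_true] at h1
    cases i with
    | zero => simpa using h1.1
    | succ i =>
      have e1 : m + (i + 1) * p = m + p + i * p := by ring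
      have e2 : a + (i + 1 : ℕ) * da = a + da + i * da := by push_cast; ring
      rw [e1] at hi ⊢
      rw [e2]
      exact ih h1.2 i hi

/-- the enumeration -/
noncomputable def dfs (leaf : List ℤ → ℕ → Bool) (C fuel : ℕ) (lv : List Lev) : List ℤ → ℕ → Bool :=
  List.rec leaf (fun l _ ih as bud => frI (dot l.r as) fun s => frI (-(s / l.p)) fun a => frc (s % l.p).toNat fun m =>
    scan (fun x b => ih (x :: as) b) C l.n bud 1 l.p fuel a m &&
      scan (fun x b => ih (x :: as) b) C l.n bud (-1) l.p fuel (a - 1) (l.p - m)) lv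

theorem dfs_cons {leaf : List ℤ → ℕ → Bool} {C fuel : ℕ} {l : Lev} {lv : List Lev} {as : List ℤ} {bud : ℕ}
    (h : dfs leaf C fuel (l :: lv) as bud = true) (hp : 0 < l.p) (a : ℤ)
    (ha : cost C l.n (l.p * a + dot l.r as).natAbs ≤ bud) :
    dfs leaf C fuel lv (a :: as) (bud - cost C l.n (l.p * a + dot l.r as).natAbs) = true := by
  change (frI (dot l.r as) fun s => frI (-(s / l.p)) fun a => frc (s % l.p).toNat fun m =>
    scan (fun x b => dfs leaf C fuel lv (x :: as) b) C l.n bud 1 l.p fuel a m &&
      scan (fun x b => dfs leaf C fuel lv (x :: as) b) C l.n bud (-1) l.p fuel (a - 1) (l.p - m)) = true at h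
  simp only [frI_eq, frc_eq, Bool.and_eq_true] at h
  generalize dot l.r as = s at h ha ⊢
  have h1 := Int.mul_ediv_add_emod s l.p
  have h2 := Int.emod_nonneg s (b := l.p) (by omega)
  have h3 := Int.emod_lt_of_pos s (b := l.p) (by omega)
  generalize s / l.p = q at h h1
  obtain ⟨m, hm⟩ := Int.eq_ofNat_of_zero_le h2
  rw [hm] at h h1 h3
  rw [Int.toNat_natCast] at h
  rcases le_or_gt (-q) a with h4 | h4
  · obtain ⟨i, hi⟩ := Int.eq_ofNat_of_zero_le (sub_nonneg.2 h4)
    have h5 : (l.p * a + s).natAbs = m + i * l.p := by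
      rw [show l.p * a + s = ((m + i * l.p : ℕ) : ℤ) by push_cast; linear_combination l.p * hi - h1, Int.natAbs_natCast]
    rw [h5] at ha ⊢
    have h6 := scan_spec h.1 i ha
    rwa [show -q + i * 1 = a by omega] at h6
  · obtain ⟨i, hi⟩ := Int.eq_ofNat_of_zero_le (show 0 ≤ -q - 1 - a by omega)
    have h5 : (l.p * a + s).natAbs = l.p - m + i * l.p := by
      rw [show l.p * a + s = -((l.p - m + i * l.p : ℕ) : ℤ) by
        push_cast [Nat.cast_sub (show m ≤ l.p by omega)]; linear_combination -l.p * hi - h1, Int.natAbs_neg,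
        Int.natAbs_natCast]
    rw [h5] at ha ⊢
    have h6 := scan_spec h.2 i ha
    rwa [show -q - 1 + i * -1 = a by omega] at h6

/-- the check of the Gram-Schmidt vectors -/
noncomputable def okLev (D : Dat) (lv : List Lev) : List (List ℤ) → List (List ℤ) → Bool :=
  List.rec (fun _ _ => true) (fun l _ ih vs us => frL (lin (l.p :: l.r) (l.v :: vs)) fun u =>
    Nat.blt 0 l.p && Nat.blt 0 l.n && decide (ip D u u = l.n) && allL (fun w => decide (ip D w u = 0)) us &&
      ih (l.v :: vs) (u :: us)) lv

/-- **Bessel's inequality and the enumeration** -/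
theorem bessel_dfs {ι : Type} [Fintype ι] {ty : ι → ℕ} {h : ι → ℝ} {D : Dat} {c I : ℝ} (hc : 0 < c) (hI : 0 ≤ I)
    (hs : ∀ v w : List ℤ, ∑ x, (nth v (ty x) : ℝ) * nth w (ty x) = c * ip D v w) {L fuel : ℕ}
    {leaf : List ℤ → ℕ → Bool} (lv : List Lev)
    (hv : ∀ l ∈ lv, ∃ a : ℤ, ∑ x, h x * nth l.v (ty x) = 2 * c * D.N * a)
    {vs us : List (List ℤ)} {as : List ℤ} {bud : ℕ} {W : ℕ → ℝ} (hok : okLev D lv vs us = true)
    (hd : dfs leaf (L * D.N) fuel lv as bud = true)
    (ha : List.Forall₂ (fun v (a : ℤ) => ∑ x, h x * nth v (ty x) = 2 * c * D.N * a) vs as)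
    (hW : ∀ u, (∀ w ∈ us, ip D w u = 0) → ∑ x, W (ty x) * nth u (ty x) = 0)
    (hE : L * (∑ x, (h x - W (ty x)) ^ 2 + I) ≤ 4 * c * D.N * bud) :
    ∃ (as : List ℤ) (bud : ℕ) (W : ℕ → ℝ), leaf as bud = true ∧
      List.Forall₂ (fun v (a : ℤ) => ∑ x, h x * nth v (ty x) = 2 * c * D.N * a) ((lv.map Lev.v).reverse ++ vs) as ∧
      L * (∑ x, (h x - W (ty x)) ^ 2 + I) ≤ 4 * c * D.N * bud := by
  induction lv generalizing vs us as bud W with
  | nil => exact ⟨as, bud, W, hd, ha, hE⟩
  | cons l lv ih =>
    obtain ⟨a, ha'⟩ := hv l List.mem_cons_self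
    change (frL (lin (l.p :: l.r) (l.v :: vs)) fun u => Nat.blt 0 l.p && Nat.blt 0 l.n && decide (ip D u u = l.n) &&
      allL (fun w => decide (ip D w u = 0)) us && okLev D lv (l.v :: vs) (u :: us)) = true at hok
    simp only [frL_eq, Bool.and_eq_true, Nat.blt_eq, decide_eq_true_eq] at hok
    obtain ⟨⟨⟨⟨hp, hn⟩, hu⟩, ho⟩, hok⟩ := hok
    have h1 := pair_lin (l.p :: l.r) (List.Forall₂.cons ha' ha)
    rw [show dot (l.p :: l.r) (a :: as) = l.p * a + dot l.r as from rfl] at h1
    have h2 := hW _ fun w hw => of_decide_eq_true (allL_spec ho w hw)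
    have h3 := hs (lin (l.p :: l.r) (l.v :: vs)) (lin (l.p :: l.r) (l.v :: vs))
    rw [hu, Int.cast_natCast] at h3
    generalize lin (l.p :: l.r) (l.v :: vs) = u at h1 h2 h3 hok
    have hd' := dfs_cons hd hp a
    generalize l.p * a + dot l.r as = b at h1 hd'
    have hn' : (0 : ℝ) < l.n := by exact_mod_cast hn
    have h4 : ∑ x, (h x - (W (ty x) + 2 * D.N * b / l.n * nth u (ty x))) ^ 2 =
        ∑ x, (h x - W (ty x)) ^ 2 - 4 * c * D.N * (D.N * b ^ 2 / l.n) := by
      have h5 : ∀ x, (h x - (W (ty x) + 2 * D.N * b / l.n * nth u (ty x))) ^ 2 = (h x - W (ty x)) ^ 2 +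
          (2 * D.N * b / l.n) * (2 * (W (ty x) * nth u (ty x)) - 2 * (h x * nth u (ty x)) +
            (2 * D.N * b / l.n) * (nth u (ty x) * nth u (ty x))) := fun x => by ring
      simp only [h5, Finset.sum_add_distrib, Finset.sum_sub_distrib, ← Finset.mul_sum, h1, h2, h3]
      field_simp
      ring
    have h5 : (cost (L * D.N) l.n b.natAbs : ℝ) ≤ L * (D.N * b ^ 2 / l.n) := by
      refine Nat.cast_div_le.trans (le_of_eq ?_)
      simp only [Nat.mul_eq, Nat.cast_mul, Nat.cast_natAbs, Int.cast_abs, abs_mul_abs_self]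
      ring
    have h6 : 0 ≤ (L : ℝ) * (∑ x, (h x - (W (ty x) + 2 * D.N * b / l.n * nth u (ty x))) ^ 2 + I) := by positivity
    have h7 : 4 * c * D.N * (cost (L * D.N) l.n b.natAbs : ℝ) ≤ 4 * c * D.N * (L * (D.N * b ^ 2 / l.n)) :=
      mul_le_mul_of_nonneg_left h5 (by positivity)
    have h8 : cost (L * D.N) l.n b.natAbs ≤ bud := by
      rcases Nat.eq_zero_or_pos D.N with h0 | h0
      · rw [cost, h0]
        exact (Nat.div_le_self _ _).trans (by simp)
      · have h9 : (0 : ℝ) < 4 * c * D.N := by positivity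
        rw [h4] at h6
        have h10 : 4 * c * D.N * (cost (L * D.N) l.n b.natAbs : ℝ) ≤ 4 * c * D.N * (bud : ℝ) := by linarith
        exact_mod_cast le_of_mul_le_mul_left h10 h9
    have h9 := ih (fun k hk => hv k (List.mem_cons_of_mem _ hk)) (W := fun t => W t + 2 * D.N * b / l.n * nth u t)
      hok (hd' h8) (List.Forall₂.cons ha' ha) (fun w hw => ?_) (by rw [h4, Nat.cast_sub h8]; linarith)
    · rwa [List.map_cons, List.reverse_cons, List.append_assoc]
    · simp only [add_mul, Finset.sum_add_distrib, mul_assoc, ← Finset.mul_sum, hs, hw u List.mem_cons_self,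
        hW w fun k hk => hw k (List.mem_cons_of_mem _ hk), Int.cast_zero, mul_zero, add_zero]

end Cfsg.Agent.TAB.Cov
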