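import Cfsg.Agent.TAB.F22.Mx

/-!
# The representation of degree 78 of `Fi22` : the matrices and the relations (helper31, TAB)

The matrices are the rational forms of the matrices of helper481.
-/

set_option autoImplicit false
set_option maxRecDepth 100000

namespace Cfsg.Agent.TAB.F22

local notation "A" => Nat.add
local notation "M" => Nat.mul

/-- the letter 0 -/
def m0 : List Row := [
  (([(0, 1)], 0), [], 0), (([(1, 1)], 0), [], 0), (([], 2), [(2, 1)], 0), (([(3, 1)], 0), [], 0),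
  (([], 2), [(4, 1)], 0), (([(5, 1)], 0), [], 0), (([], 2), [(6, 1)], 0), (([], 2), [(7, 1)], 0),
  (([(8, 1)], 0), [], 0), (([], 2), [(9, 1)], 0), (([], 2), [(10, 1)], 0), (([(11, 1)], 0), [], 0),
  (([], 2), [(12, 1)], 0), (([], 2), [(13, 1)], 0), (([(14, 1)], 0), [], 0), (([], 2), [(15, 1)], 0),
  (([], 2), [(16, 1)], 0), (([], 2), [(17, 1)], 0), (([], 2), [(18, 1)], 0), (([], 2), [(19, 1)], 0),
  (([], 2), [(20, 1)], 0), (([], 2), [(21, 1)], 0), (([], 2), [(22, 1)], 0), (([], 2), [(23, 1)], 0),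
  (([], 2), [(24, 1)], 0), (([(25, 1)], 0), [], 0), (([(26, 1)], 0), [], 0), (([], 2), [(27, 1)], 0),
  (([], 2), [(28, 1)], 0), (([(29, 1)], 0), [], 0), (([], 2), [(30, 1)], 0), (([], 2), [(31, 1)], 0),
  (([], 2), [(32, 1)], 0), (([], 2), [(33, 1)], 0), (([(34, 1)], 0), [], 0), (([], 2), [(35, 1)], 0),
  (([(36, 1)], 0), [], 0), (([], 2), [(37, 1)], 0), (([(38, 1)], 0), [], 0), (([], 2), [(39, 1)], 0),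
  (([], 2), [(40, 1)], 0), (([], 2), [(41, 1)], 0), (([(42, 1)], 0), [], 0), (([], 2), [(43, 1)], 0),
  (([(44, 1)], 0), [], 0), (([], 2), [(45, 1)], 0), (([], 2), [(46, 1)], 0), (([], 2), [(47, 1)], 0),
  (([], 2), [(48, 1)], 0), (([(49, 1)], 0), [], 0), (([], 2), [(50, 1)], 0), (([(51, 1)], 0), [], 0),
  (([], 2), [(52, 1)], 0), (([], 2), [(53, 1)], 0), (([], 2), [(54, 1)], 0), (([], 2), [(55, 1)], 0),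
  (([], 2), [(56, 1)], 0), (([], 2), [(57, 1)], 0), (([], 2), [(58, 1)], 0), (([], 2), [(59, 1)], 0),
  (([(60, 1)], 0), [], 0), (([], 2), [(61, 1)], 0), (([(62, 1)], 0), [], 0), (([], 2), [(63, 1)], 0),
  (([(64, 1)], 0), [], 0), (([], 2), [(65, 1)], 0), (([(66, 1)], 0), [], 0), (([], 2), [(67, 1)], 0),
  (([], 2), [(68, 1)], 0), (([], 2), [(69, 1)], 0), (([], 2), [(70, 1)], 0), (([], 2), [(71, 1)], 0),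
  (([], 2), [(72, 1)], 0), (([], 2), [(73, 1)], 0), (([], 2), [(74, 1)], 0), (([], 2), [(75, 1)], 0),
  (([], 2), [(76, 1)], 0), (([(77, 1)], 0), [], 0)]

/-- the function of the letter 0 -/
def f0 (C : ℕ) : Fn (List (ℕ × ℕ)) 78 := fun (
    x0 x1 x2 x3 x4 x5 x6 x7 x8 x9 x10 x11 x12 x13 x14 x15 x16 x17 x18 x19 x20 x21 x22 x23 x24 x25 x26 x27 x28 x29
    x30 x31 x32 x33 x34 x35 x36 x37 x38 x39 x40 x41 x42 x43 x44 x45 x46 x47 x48 x49 x50 x51 x52 x53 x54 x55 x56 x57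
    x58 x59 x60 x61 x62 x63 x64 x65 x66 x67 x68 x69 x70 x71 x72 x73 x74 x75 x76 x77 : ℕ) => ([
  ((A (M 1 x0) (M 0 C)), (M 0 C)), ((A (M 1 x1) (M 0 C)), (M 0 C)), ((M 2 C), (A (M 1 x2) (M 0 C))), ((A (M 1 x3)
  (M 0 C)), (M 0 C)), ((M 2 C), (A (M 1 x4) (M 0 C))), ((A (M 1 x5) (M 0 C)), (M 0 C)), ((M 2 C), (A (M 1 x6)
  (M 0 C))), ((M 2 C), (A (M 1 x7) (M 0 C))), ((A (M 1 x8) (M 0 C)), (M 0 C)), ((M 2 C), (A (M 1 x9) (M 0 C))),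
  ((M 2 C), (A (M 1 x10) (M 0 C))), ((A (M 1 x11) (M 0 C)), (M 0 C)), ((M 2 C), (A (M 1 x12) (M 0 C))), ((M 2 C),
  (A (M 1 x13) (M 0 C))), ((A (M 1 x14) (M 0 C)), (M 0 C)), ((M 2 C), (A (M 1 x15) (M 0 C))), ((M 2 C), (A (M 1 x16)
  (M 0 C))), ((M 2 C), (A (M 1 x17) (M 0 C))), ((M 2 C), (A (M 1 x18) (M 0 C))), ((M 2 C), (A (M 1 x19) (M 0 C))),
  ((M 2 C), (A (M 1 x20) (M 0 C))), ((M 2 C), (A (M 1 x21) (M 0 C))), ((M 2 C), (A (M 1 x22) (M 0 C))), ((M 2 C),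
  (A (M 1 x23) (M 0 C))), ((M 2 C), (A (M 1 x24) (M 0 C))), ((A (M 1 x25) (M 0 C)), (M 0 C)), ((A (M 1 x26)
  (M 0 C)), (M 0 C)), ((M 2 C), (A (M 1 x27) (M 0 C))), ((M 2 C), (A (M 1 x28) (M 0 C))), ((A (M 1 x29) (M 0 C)),
  (M 0 C)), ((M 2 C), (A (M 1 x30) (M 0 C))), ((M 2 C), (A (M 1 x31) (M 0 C))), ((M 2 C), (A (M 1 x32) (M 0 C))),
  ((M 2 C), (A (M 1 x33) (M 0 C))), ((A (M 1 x34) (M 0 C)), (M 0 C)), ((M 2 C), (A (M 1 x35) (M 0 C))),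
  ((A (M 1 x36) (M 0 C)), (M 0 C)), ((M 2 C), (A (M 1 x37) (M 0 C))), ((A (M 1 x38) (M 0 C)), (M 0 C)), ((M 2 C),
  (A (M 1 x39) (M 0 C))), ((M 2 C), (A (M 1 x40) (M 0 C))), ((M 2 C), (A (M 1 x41) (M 0 C))), ((A (M 1 x42)
  (M 0 C)), (M 0 C)), ((M 2 C), (A (M 1 x43) (M 0 C))), ((A (M 1 x44) (M 0 C)), (M 0 C)), ((M 2 C), (A (M 1 x45)
  (M 0 C))), ((M 2 C), (A (M 1 x46) (M 0 C))), ((M 2 C), (A (M 1 x47) (M 0 C))), ((M 2 C), (A (M 1 x48) (M 0 C))),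
  ((A (M 1 x49) (M 0 C)), (M 0 C)), ((M 2 C), (A (M 1 x50) (M 0 C))), ((A (M 1 x51) (M 0 C)), (M 0 C)), ((M 2 C),
  (A (M 1 x52) (M 0 C))), ((M 2 C), (A (M 1 x53) (M 0 C))), ((M 2 C), (A (M 1 x54) (M 0 C))), ((M 2 C), (A (M 1 x55)
  (M 0 C))), ((M 2 C), (A (M 1 x56) (M 0 C))), ((M 2 C), (A (M 1 x57) (M 0 C))), ((M 2 C), (A (M 1 x58) (M 0 C))),
  ((M 2 C), (A (M 1 x59) (M 0 C))), ((A (M 1 x60) (M 0 C)), (M 0 C)), ((M 2 C), (A (M 1 x61) (M 0 C))),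
  ((A (M 1 x62) (M 0 C)), (M 0 C)), ((M 2 C), (A (M 1 x63) (M 0 C))), ((A (M 1 x64) (M 0 C)), (M 0 C)), ((M 2 C),
  (A (M 1 x65) (M 0 C))), ((A (M 1 x66) (M 0 C)), (M 0 C)), ((M 2 C), (A (M 1 x67) (M 0 C))), ((M 2 C), (A (M 1 x68)
  (M 0 C))), ((M 2 C), (A (M 1 x69) (M 0 C))), ((M 2 C), (A (M 1 x70) (M 0 C))), ((M 2 C), (A (M 1 x71) (M 0 C))),
  ((M 2 C), (A (M 1 x72) (M 0 C))), ((M 2 C), (A (M 1 x73) (M 0 C))), ((M 2 C), (A (M 1 x74) (M 0 C))), ((M 2 C),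
  (A (M 1 x75) (M 0 C))), ((M 2 C), (A (M 1 x76) (M 0 C))), ((A (M 1 x77) (M 0 C)), (M 0 C))] : List (ℕ × ℕ))

theorem f0_eq : f0 = fnOf 78 m0 := rfl

/-- the letter 1 -/
def m1 : List Row := [
  (([(32, 2)], 4), [(0, 2)], 0), (([(16, 2), (50, 2)], 4), [(1, 2), (63, 2)], 0), (([], 12), [(2, 2), (21, 2),
  (49, 2), (58, 2)], 0), (([(15, 2), (24, 2)], 4), [(3, 2), (73, 2)], 0), (([(19, 1), (20, 1), (42, 1), (46, 1),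
  (59, 1), (62, 1), (75, 1), (76, 1)], 4), [(4, 1), (11, 1), (26, 1), (28, 1), (47, 1), (51, 1), (64, 1),
  (67, 1)], 0), (([(10, 2), (68, 2)], 4), [(5, 2), (41, 2)], 0), (([(25, 2), (48, 2)], 4), [(6, 2), (61, 2)], 0),
  (([], 12), [(7, 2), (23, 2), (44, 2), (65, 2)], 0), (([(12, 2), (27, 2)], 4), [(8, 2), (74, 2)], 0),
  (([], 12), [(9, 2), (17, 2), (43, 2), (66, 2)], 0), (([(5, 2), (68, 2)], 4), [(10, 2), (41, 2)], 0), (([(42, 1),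
  (46, 1), (47, 1), (51, 1), (59, 1), (62, 1), (64, 1), (67, 1)], 4), [(4, 1), (11, 1), (19, 1), (20, 1), (26, 1),
  (28, 1), (75, 1), (76, 1)], 0), (([(8, 2), (27, 2)], 4), [(12, 2), (74, 2)], 0), (([], 12), [(13, 2), (18, 2),
  (52, 2), (60, 2)], 0), (([(22, 2), (57, 2)], 4), [(14, 2), (45, 2)], 0), (([(3, 2), (24, 2)], 4), [(15, 2),
  (73, 2)], 0), (([(1, 2), (50, 2)], 4), [(16, 2), (63, 2)], 0), (([(43, 2), (66, 2)], 4), [(9, 2), (17, 2)], 0),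
  (([(52, 2), (60, 2)], 4), [(13, 2), (18, 2)], 0), (([(4, 1), (28, 1), (42, 1), (47, 1), (59, 1), (64, 1), (75, 1),
  (76, 1)], 4), [(11, 1), (19, 1), (20, 1), (26, 1), (46, 1), (51, 1), (62, 1), (67, 1)], 0), (([(4, 1), (28, 1),
  (46, 1), (51, 1), (62, 1), (67, 1), (75, 1), (76, 1)], 4), [(11, 1), (19, 1), (20, 1), (26, 1), (42, 1), (47, 1),
  (59, 1), (64, 1)], 0), (([(49, 2), (58, 2)], 4), [(2, 2), (21, 2)], 0), (([(14, 2), (57, 2)], 4), [(22, 2),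
  (45, 2)], 0), (([(44, 2), (65, 2)], 4), [(7, 2), (23, 2)], 0), (([(3, 2), (15, 2)], 4), [(24, 2), (73, 2)], 0),
  (([(6, 2), (48, 2)], 4), [(25, 2), (61, 2)], 0), (([], 20), [(4, 1), (11, 1), (19, 1), (20, 1), (26, 1), (28, 1),
  (42, 1), (46, 1), (47, 1), (51, 1), (59, 1), (62, 1), (64, 1), (67, 1), (75, 1), (76, 1)], 0), (([(8, 2),
  (12, 2)], 4), [(27, 2), (74, 2)], 0), (([(19, 1), (20, 1), (47, 1), (51, 1), (64, 1), (67, 1), (75, 1),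
  (76, 1)], 4), [(4, 1), (11, 1), (26, 1), (28, 1), (42, 1), (46, 1), (59, 1), (62, 1)], 0), (([(40, 2),
  (71, 2)], 4), [(29, 2), (54, 2)], 0), (([(34, 2), (56, 2)], 4), [(30, 2), (69, 2)], 0), (([], 12), [(31, 2),
  (37, 2), (39, 2), (77, 2)], 0), (([(0, 6), (32, 2)], 0), [], 4), (([(36, 2), (72, 2)], 4), [(33, 2), (55, 2)], 0),
  (([(30, 2), (56, 2)], 4), [(34, 2), (69, 2)], 0), (([(38, 2), (53, 2)], 4), [(35, 2), (70, 2)], 0), (([(33, 2),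
  (72, 2)], 4), [(36, 2), (55, 2)], 0), (([(39, 2), (77, 2)], 4), [(31, 2), (37, 2)], 0), (([(35, 2),
  (53, 2)], 4), [(38, 2), (70, 2)], 0), (([(37, 2), (77, 2)], 4), [(31, 2), (39, 2)], 0), (([(29, 2),
  (71, 2)], 4), [(40, 2), (54, 2)], 0), (([], 12), [(5, 2), (10, 2), (41, 2), (68, 2)], 0), (([(4, 1), (11, 1),
  (19, 1), (51, 1), (59, 1), (62, 1), (64, 1), (76, 1)], 4), [(20, 1), (26, 1), (28, 1), (42, 1), (46, 1), (47, 1),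
  (67, 1), (75, 1)], 0), (([(17, 2), (66, 2)], 4), [(9, 2), (43, 2)], 0), (([(23, 2), (65, 2)], 4), [(7, 2),
  (44, 2)], 0), (([], 12), [(14, 2), (22, 2), (45, 2), (57, 2)], 0), (([(4, 1), (11, 1), (20, 1), (47, 1), (59, 1),
  (62, 1), (67, 1), (75, 1)], 4), [(19, 1), (26, 1), (28, 1), (42, 1), (46, 1), (51, 1), (64, 1), (76, 1)], 0),
  (([(11, 1), (19, 1), (28, 1), (46, 1), (59, 1), (64, 1), (67, 1), (75, 1)], 4), [(4, 1), (20, 1), (26, 1),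
  (42, 1), (47, 1), (51, 1), (62, 1), (76, 1)], 0), (([(6, 2), (25, 2)], 4), [(48, 2), (61, 2)], 0), (([(21, 2),
  (58, 2)], 4), [(2, 2), (49, 2)], 0), (([(1, 2), (16, 2)], 4), [(50, 2), (63, 2)], 0), (([(11, 1), (20, 1),
  (28, 1), (42, 1), (62, 1), (64, 1), (67, 1), (76, 1)], 4), [(4, 1), (19, 1), (26, 1), (46, 1), (47, 1), (51, 1),
  (59, 1), (75, 1)], 0), (([(18, 2), (60, 2)], 4), [(13, 2), (52, 2)], 0), (([(35, 2), (38, 2)], 4), [(53, 2),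
  (70, 2)], 0), (([], 12), [(29, 2), (40, 2), (54, 2), (71, 2)], 0), (([], 12), [(33, 2), (36, 2), (55, 2),
  (72, 2)], 0), (([(30, 2), (34, 2)], 4), [(56, 2), (69, 2)], 0), (([(14, 2), (22, 2)], 4), [(45, 2), (57, 2)], 0),
  (([(21, 2), (49, 2)], 4), [(2, 2), (58, 2)], 0), (([(4, 1), (11, 1), (19, 1), (42, 1), (46, 1), (47, 1), (67, 1),
  (76, 1)], 4), [(20, 1), (26, 1), (28, 1), (51, 1), (59, 1), (62, 1), (64, 1), (75, 1)], 0), (([(18, 2),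
  (52, 2)], 4), [(13, 2), (60, 2)], 0), (([], 12), [(6, 2), (25, 2), (48, 2), (61, 2)], 0), (([(4, 1), (11, 1),
  (20, 1), (42, 1), (46, 1), (51, 1), (64, 1), (75, 1)], 4), [(19, 1), (26, 1), (28, 1), (47, 1), (59, 1), (62, 1),
  (67, 1), (76, 1)], 0), (([], 12), [(1, 2), (16, 2), (50, 2), (63, 2)], 0), (([(11, 1), (19, 1), (28, 1), (42, 1),
  (47, 1), (51, 1), (62, 1), (75, 1)], 4), [(4, 1), (20, 1), (26, 1), (46, 1), (59, 1), (64, 1), (67, 1),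
  (76, 1)], 0), (([(23, 2), (44, 2)], 4), [(7, 2), (65, 2)], 0), (([(17, 2), (43, 2)], 4), [(9, 2), (66, 2)], 0),
  (([(11, 1), (20, 1), (28, 1), (46, 1), (47, 1), (51, 1), (59, 1), (76, 1)], 4), [(4, 1), (19, 1), (26, 1),
  (42, 1), (62, 1), (64, 1), (67, 1), (75, 1)], 0), (([(5, 2), (10, 2)], 4), [(41, 2), (68, 2)], 0),
  (([], 12), [(30, 2), (34, 2), (56, 2), (69, 2)], 0), (([], 12), [(35, 2), (38, 2), (53, 2), (70, 2)], 0),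
  (([(29, 2), (40, 2)], 4), [(54, 2), (71, 2)], 0), (([(33, 2), (36, 2)], 4), [(55, 2), (72, 2)], 0),
  (([], 12), [(3, 2), (15, 2), (24, 2), (73, 2)], 0), (([], 12), [(8, 2), (12, 2), (27, 2), (74, 2)], 0), (([(4, 1),
  (19, 1), (20, 1), (28, 1), (46, 1), (47, 1), (62, 1), (64, 1)], 4), [(11, 1), (26, 1), (42, 1), (51, 1), (59, 1),
  (67, 1), (75, 1), (76, 1)], 0), (([(4, 1), (19, 1), (20, 1), (28, 1), (42, 1), (51, 1), (59, 1),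
  (67, 1)], 4), [(11, 1), (26, 1), (46, 1), (47, 1), (62, 1), (64, 1), (75, 1), (76, 1)], 0), (([(37, 2),
  (39, 2)], 4), [(31, 2), (77, 2)], 0)]

/-- the function of the letter 1 -/
def f1 (C : ℕ) : Fn (List (ℕ × ℕ)) 78 := fun (
    x0 x1 x2 x3 x4 x5 x6 x7 x8 x9 x10 x11 x12 x13 x14 x15 x16 x17 x18 x19 x20 x21 x22 x23 x24 x25 x26 x27 x28 x29
    x30 x31 x32 x33 x34 x35 x36 x37 x38 x39 x40 x41 x42 x43 x44 x45 x46 x47 x48 x49 x50 x51 x52 x53 x54 x55 x56 x57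
    x58 x59 x60 x61 x62 x63 x64 x65 x66 x67 x68 x69 x70 x71 x72 x73 x74 x75 x76 x77 : ℕ) => ([
  ((A (M 2 x32) (M 4 C)), (A (M 2 x0) (M 0 C))), ((A (M 2 x16) (A (M 2 x50) (M 4 C))), (A (M 2 x1) (A (M 2 x63)
  (M 0 C)))), ((M 12 C), (A (M 2 x2) (A (M 2 x21) (A (M 2 x49) (A (M 2 x58) (M 0 C)))))), ((A (M 2 x15) (A (M 2 x24)
  (M 4 C))), (A (M 2 x3) (A (M 2 x73) (M 0 C)))), ((A (M 1 x19) (A (M 1 x20) (A (M 1 x42) (A (M 1 x46) (A (M 1 x59)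
  (A (M 1 x62) (A (M 1 x75) (A (M 1 x76) (M 4 C))))))))), (A (M 1 x4) (A (M 1 x11) (A (M 1 x26) (A (M 1 x28)
  (A (M 1 x47) (A (M 1 x51) (A (M 1 x64) (A (M 1 x67) (M 0 C)))))))))), ((A (M 2 x10) (A (M 2 x68) (M 4 C))),
  (A (M 2 x5) (A (M 2 x41) (M 0 C)))), ((A (M 2 x25) (A (M 2 x48) (M 4 C))), (A (M 2 x6) (A (M 2 x61) (M 0 C)))),
  ((M 12 C), (A (M 2 x7) (A (M 2 x23) (A (M 2 x44) (A (M 2 x65) (M 0 C)))))), ((A (M 2 x12) (A (M 2 x27) (M 4 C))),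
  (A (M 2 x8) (A (M 2 x74) (M 0 C)))), ((M 12 C), (A (M 2 x9) (A (M 2 x17) (A (M 2 x43) (A (M 2 x66) (M 0 C)))))),
  ((A (M 2 x5) (A (M 2 x68) (M 4 C))), (A (M 2 x10) (A (M 2 x41) (M 0 C)))), ((A (M 1 x42) (A (M 1 x46) (A (M 1 x47)
  (A (M 1 x51) (A (M 1 x59) (A (M 1 x62) (A (M 1 x64) (A (M 1 x67) (M 4 C))))))))), (A (M 1 x4) (A (M 1 x11)
  (A (M 1 x19) (A (M 1 x20) (A (M 1 x26) (A (M 1 x28) (A (M 1 x75) (A (M 1 x76) (M 0 C)))))))))), ((A (M 2 x8)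
  (A (M 2 x27) (M 4 C))), (A (M 2 x12) (A (M 2 x74) (M 0 C)))), ((M 12 C), (A (M 2 x13) (A (M 2 x18) (A (M 2 x52)
  (A (M 2 x60) (M 0 C)))))), ((A (M 2 x22) (A (M 2 x57) (M 4 C))), (A (M 2 x14) (A (M 2 x45) (M 0 C)))),
  ((A (M 2 x3) (A (M 2 x24) (M 4 C))), (A (M 2 x15) (A (M 2 x73) (M 0 C)))), ((A (M 2 x1) (A (M 2 x50) (M 4 C))),
  (A (M 2 x16) (A (M 2 x63) (M 0 C)))), ((A (M 2 x43) (A (M 2 x66) (M 4 C))), (A (M 2 x9) (A (M 2 x17) (M 0 C)))),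
  ((A (M 2 x52) (A (M 2 x60) (M 4 C))), (A (M 2 x13) (A (M 2 x18) (M 0 C)))), ((A (M 1 x4) (A (M 1 x28) (A (M 1 x42)
  (A (M 1 x47) (A (M 1 x59) (A (M 1 x64) (A (M 1 x75) (A (M 1 x76) (M 4 C))))))))), (A (M 1 x11) (A (M 1 x19)
  (A (M 1 x20) (A (M 1 x26) (A (M 1 x46) (A (M 1 x51) (A (M 1 x62) (A (M 1 x67) (M 0 C)))))))))), ((A (M 1 x4)
  (A (M 1 x28) (A (M 1 x46) (A (M 1 x51) (A (M 1 x62) (A (M 1 x67) (A (M 1 x75) (A (M 1 x76) (M 4 C))))))))),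
  (A (M 1 x11) (A (M 1 x19) (A (M 1 x20) (A (M 1 x26) (A (M 1 x42) (A (M 1 x47) (A (M 1 x59) (A (M 1 x64)
  (M 0 C)))))))))), ((A (M 2 x49) (A (M 2 x58) (M 4 C))), (A (M 2 x2) (A (M 2 x21) (M 0 C)))), ((A (M 2 x14)
  (A (M 2 x57) (M 4 C))), (A (M 2 x22) (A (M 2 x45) (M 0 C)))), ((A (M 2 x44) (A (M 2 x65) (M 4 C))), (A (M 2 x7)
  (A (M 2 x23) (M 0 C)))), ((A (M 2 x3) (A (M 2 x15) (M 4 C))), (A (M 2 x24) (A (M 2 x73) (M 0 C)))), ((A (M 2 x6)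
  (A (M 2 x48) (M 4 C))), (A (M 2 x25) (A (M 2 x61) (M 0 C)))), ((M 20 C), (A (M 1 x4) (A (M 1 x11) (A (M 1 x19)
  (A (M 1 x20) (A (M 1 x26) (A (M 1 x28) (A (M 1 x42) (A (M 1 x46) (A (M 1 x47) (A (M 1 x51) (A (M 1 x59)
  (A (M 1 x62) (A (M 1 x64) (A (M 1 x67) (A (M 1 x75) (A (M 1 x76) (M 0 C)))))))))))))))))), ((A (M 2 x8)
  (A (M 2 x12) (M 4 C))), (A (M 2 x27) (A (M 2 x74) (M 0 C)))), ((A (M 1 x19) (A (M 1 x20) (A (M 1 x47) (A (M 1 x51)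
  (A (M 1 x64) (A (M 1 x67) (A (M 1 x75) (A (M 1 x76) (M 4 C))))))))), (A (M 1 x4) (A (M 1 x11) (A (M 1 x26)
  (A (M 1 x28) (A (M 1 x42) (A (M 1 x46) (A (M 1 x59) (A (M 1 x62) (M 0 C)))))))))), ((A (M 2 x40) (A (M 2 x71)
  (M 4 C))), (A (M 2 x29) (A (M 2 x54) (M 0 C)))), ((A (M 2 x34) (A (M 2 x56) (M 4 C))), (A (M 2 x30) (A (M 2 x69)
  (M 0 C)))), ((M 12 C), (A (M 2 x31) (A (M 2 x37) (A (M 2 x39) (A (M 2 x77) (M 0 C)))))), ((A (M 6 x0) (A (M 2 x32)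
  (M 0 C))), (M 4 C)), ((A (M 2 x36) (A (M 2 x72) (M 4 C))), (A (M 2 x33) (A (M 2 x55) (M 0 C)))), ((A (M 2 x30)
  (A (M 2 x56) (M 4 C))), (A (M 2 x34) (A (M 2 x69) (M 0 C)))), ((A (M 2 x38) (A (M 2 x53) (M 4 C))), (A (M 2 x35)
  (A (M 2 x70) (M 0 C)))), ((A (M 2 x33) (A (M 2 x72) (M 4 C))), (A (M 2 x36) (A (M 2 x55) (M 0 C)))), ((A (M 2 x39)
  (A (M 2 x77) (M 4 C))), (A (M 2 x31) (A (M 2 x37) (M 0 C)))), ((A (M 2 x35) (A (M 2 x53) (M 4 C))), (A (M 2 x38)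
  (A (M 2 x70) (M 0 C)))), ((A (M 2 x37) (A (M 2 x77) (M 4 C))), (A (M 2 x31) (A (M 2 x39) (M 0 C)))), ((A (M 2 x29)
  (A (M 2 x71) (M 4 C))), (A (M 2 x40) (A (M 2 x54) (M 0 C)))), ((M 12 C), (A (M 2 x5) (A (M 2 x10) (A (M 2 x41)
  (A (M 2 x68) (M 0 C)))))), ((A (M 1 x4) (A (M 1 x11) (A (M 1 x19) (A (M 1 x51) (A (M 1 x59) (A (M 1 x62)
  (A (M 1 x64) (A (M 1 x76) (M 4 C))))))))), (A (M 1 x20) (A (M 1 x26) (A (M 1 x28) (A (M 1 x42) (A (M 1 x46)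
  (A (M 1 x47) (A (M 1 x67) (A (M 1 x75) (M 0 C)))))))))), ((A (M 2 x17) (A (M 2 x66) (M 4 C))), (A (M 2 x9)
  (A (M 2 x43) (M 0 C)))), ((A (M 2 x23) (A (M 2 x65) (M 4 C))), (A (M 2 x7) (A (M 2 x44) (M 0 C)))), ((M 12 C),
  (A (M 2 x14) (A (M 2 x22) (A (M 2 x45) (A (M 2 x57) (M 0 C)))))), ((A (M 1 x4) (A (M 1 x11) (A (M 1 x20)
  (A (M 1 x47) (A (M 1 x59) (A (M 1 x62) (A (M 1 x67) (A (M 1 x75) (M 4 C))))))))), (A (M 1 x19) (A (M 1 x26)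
  (A (M 1 x28) (A (M 1 x42) (A (M 1 x46) (A (M 1 x51) (A (M 1 x64) (A (M 1 x76) (M 0 C)))))))))), ((A (M 1 x11)
  (A (M 1 x19) (A (M 1 x28) (A (M 1 x46) (A (M 1 x59) (A (M 1 x64) (A (M 1 x67) (A (M 1 x75) (M 4 C))))))))),
  (A (M 1 x4) (A (M 1 x20) (A (M 1 x26) (A (M 1 x42) (A (M 1 x47) (A (M 1 x51) (A (M 1 x62) (A (M 1 x76)
  (M 0 C)))))))))), ((A (M 2 x6) (A (M 2 x25) (M 4 C))), (A (M 2 x48) (A (M 2 x61) (M 0 C)))), ((A (M 2 x21)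
  (A (M 2 x58) (M 4 C))), (A (M 2 x2) (A (M 2 x49) (M 0 C)))), ((A (M 2 x1) (A (M 2 x16) (M 4 C))), (A (M 2 x50)
  (A (M 2 x63) (M 0 C)))), ((A (M 1 x11) (A (M 1 x20) (A (M 1 x28) (A (M 1 x42) (A (M 1 x62) (A (M 1 x64)
  (A (M 1 x67) (A (M 1 x76) (M 4 C))))))))), (A (M 1 x4) (A (M 1 x19) (A (M 1 x26) (A (M 1 x46) (A (M 1 x47)
  (A (M 1 x51) (A (M 1 x59) (A (M 1 x75) (M 0 C)))))))))), ((A (M 2 x18) (A (M 2 x60) (M 4 C))), (A (M 2 x13)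
  (A (M 2 x52) (M 0 C)))), ((A (M 2 x35) (A (M 2 x38) (M 4 C))), (A (M 2 x53) (A (M 2 x70) (M 0 C)))), ((M 12 C),
  (A (M 2 x29) (A (M 2 x40) (A (M 2 x54) (A (M 2 x71) (M 0 C)))))), ((M 12 C), (A (M 2 x33) (A (M 2 x36)
  (A (M 2 x55) (A (M 2 x72) (M 0 C)))))), ((A (M 2 x30) (A (M 2 x34) (M 4 C))), (A (M 2 x56) (A (M 2 x69)
  (M 0 C)))), ((A (M 2 x14) (A (M 2 x22) (M 4 C))), (A (M 2 x45) (A (M 2 x57) (M 0 C)))), ((A (M 2 x21) (A (M 2 x49)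
  (M 4 C))), (A (M 2 x2) (A (M 2 x58) (M 0 C)))), ((A (M 1 x4) (A (M 1 x11) (A (M 1 x19) (A (M 1 x42) (A (M 1 x46)
  (A (M 1 x47) (A (M 1 x67) (A (M 1 x76) (M 4 C))))))))), (A (M 1 x20) (A (M 1 x26) (A (M 1 x28) (A (M 1 x51)
  (A (M 1 x59) (A (M 1 x62) (A (M 1 x64) (A (M 1 x75) (M 0 C)))))))))), ((A (M 2 x18) (A (M 2 x52) (M 4 C))),
  (A (M 2 x13) (A (M 2 x60) (M 0 C)))), ((M 12 C), (A (M 2 x6) (A (M 2 x25) (A (M 2 x48) (A (M 2 x61) (M 0 C)))))),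
  ((A (M 1 x4) (A (M 1 x11) (A (M 1 x20) (A (M 1 x42) (A (M 1 x46) (A (M 1 x51) (A (M 1 x64) (A (M 1 x75)
  (M 4 C))))))))), (A (M 1 x19) (A (M 1 x26) (A (M 1 x28) (A (M 1 x47) (A (M 1 x59) (A (M 1 x62) (A (M 1 x67)
  (A (M 1 x76) (M 0 C)))))))))), ((M 12 C), (A (M 2 x1) (A (M 2 x16) (A (M 2 x50) (A (M 2 x63) (M 0 C)))))),
  ((A (M 1 x11) (A (M 1 x19) (A (M 1 x28) (A (M 1 x42) (A (M 1 x47) (A (M 1 x51) (A (M 1 x62) (A (M 1 x75)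
  (M 4 C))))))))), (A (M 1 x4) (A (M 1 x20) (A (M 1 x26) (A (M 1 x46) (A (M 1 x59) (A (M 1 x64) (A (M 1 x67)
  (A (M 1 x76) (M 0 C)))))))))), ((A (M 2 x23) (A (M 2 x44) (M 4 C))), (A (M 2 x7) (A (M 2 x65) (M 0 C)))),
  ((A (M 2 x17) (A (M 2 x43) (M 4 C))), (A (M 2 x9) (A (M 2 x66) (M 0 C)))), ((A (M 1 x11) (A (M 1 x20) (A (M 1 x28)
  (A (M 1 x46) (A (M 1 x47) (A (M 1 x51) (A (M 1 x59) (A (M 1 x76) (M 4 C))))))))), (A (M 1 x4) (A (M 1 x19)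
  (A (M 1 x26) (A (M 1 x42) (A (M 1 x62) (A (M 1 x64) (A (M 1 x67) (A (M 1 x75) (M 0 C)))))))))), ((A (M 2 x5)
  (A (M 2 x10) (M 4 C))), (A (M 2 x41) (A (M 2 x68) (M 0 C)))), ((M 12 C), (A (M 2 x30) (A (M 2 x34) (A (M 2 x56)
  (A (M 2 x69) (M 0 C)))))), ((M 12 C), (A (M 2 x35) (A (M 2 x38) (A (M 2 x53) (A (M 2 x70) (M 0 C)))))),
  ((A (M 2 x29) (A (M 2 x40) (M 4 C))), (A (M 2 x54) (A (M 2 x71) (M 0 C)))), ((A (M 2 x33) (A (M 2 x36) (M 4 C))),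
  (A (M 2 x55) (A (M 2 x72) (M 0 C)))), ((M 12 C), (A (M 2 x3) (A (M 2 x15) (A (M 2 x24) (A (M 2 x73) (M 0 C)))))),
  ((M 12 C), (A (M 2 x8) (A (M 2 x12) (A (M 2 x27) (A (M 2 x74) (M 0 C)))))), ((A (M 1 x4) (A (M 1 x19) (A (M 1 x20)
  (A (M 1 x28) (A (M 1 x46) (A (M 1 x47) (A (M 1 x62) (A (M 1 x64) (M 4 C))))))))), (A (M 1 x11) (A (M 1 x26)
  (A (M 1 x42) (A (M 1 x51) (A (M 1 x59) (A (M 1 x67) (A (M 1 x75) (A (M 1 x76) (M 0 C)))))))))), ((A (M 1 x4)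
  (A (M 1 x19) (A (M 1 x20) (A (M 1 x28) (A (M 1 x42) (A (M 1 x51) (A (M 1 x59) (A (M 1 x67) (M 4 C))))))))),
  (A (M 1 x11) (A (M 1 x26) (A (M 1 x46) (A (M 1 x47) (A (M 1 x62) (A (M 1 x64) (A (M 1 x75) (A (M 1 x76)
  (M 0 C)))))))))), ((A (M 2 x37) (A (M 2 x39) (M 4 C))), (A (M 2 x31) (A (M 2 x77) (M 0 C))))] : List (ℕ × ℕ))

theorem f1_eq : f1 = fnOf 78 m1 := rfl

/-- the letter 2 -/
def m2 : List Row := [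
  (([(0, 1)], 0), [], 0), (([], 2), [(1, 1)], 0), (([], 2), [(2, 1)], 0), (([(3, 1)], 0), [], 0),
  (([], 2), [(4, 1)], 0), (([], 2), [(5, 1)], 0), (([(6, 1)], 0), [], 0), (([], 2), [(7, 1)], 0),
  (([(8, 1)], 0), [], 0), (([], 2), [(9, 1)], 0), (([(10, 1)], 0), [], 0), (([(11, 1)], 0), [], 0),
  (([], 2), [(12, 1)], 0), (([], 2), [(13, 1)], 0), (([], 2), [(14, 1)], 0), (([], 2), [(15, 1)], 0),
  (([(16, 1)], 0), [], 0), (([], 2), [(17, 1)], 0), (([], 2), [(18, 1)], 0), (([], 2), [(19, 1)], 0),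
  (([], 2), [(20, 1)], 0), (([], 2), [(21, 1)], 0), (([(22, 1)], 0), [], 0), (([], 2), [(23, 1)], 0),
  (([], 2), [(24, 1)], 0), (([], 2), [(25, 1)], 0), (([(26, 1)], 0), [], 0), (([], 2), [(27, 1)], 0),
  (([], 2), [(28, 1)], 0), (([], 2), [(29, 1)], 0), (([(30, 1)], 0), [], 0), (([], 2), [(31, 1)], 0),
  (([], 2), [(32, 1)], 0), (([(33, 1)], 0), [], 0), (([], 2), [(34, 1)], 0), (([(35, 1)], 0), [], 0),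
  (([], 2), [(36, 1)], 0), (([], 2), [(37, 1)], 0), (([], 2), [(38, 1)], 0), (([], 2), [(39, 1)], 0),
  (([(40, 1)], 0), [], 0), (([], 2), [(41, 1)], 0), (([], 2), [(42, 1)], 0), (([(43, 1)], 0), [], 0),
  (([], 2), [(44, 1)], 0), (([], 2), [(45, 1)], 0), (([(46, 1)], 0), [], 0), (([(47, 1)], 0), [], 0),
  (([], 2), [(48, 1)], 0), (([], 2), [(49, 1)], 0), (([], 2), [(50, 1)], 0), (([], 2), [(51, 1)], 0),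
  (([(52, 1)], 0), [], 0), (([], 2), [(53, 1)], 0), (([], 2), [(54, 1)], 0), (([], 2), [(55, 1)], 0),
  (([], 2), [(56, 1)], 0), (([], 2), [(57, 1)], 0), (([(58, 1)], 0), [], 0), (([(59, 1)], 0), [], 0),
  (([], 2), [(60, 1)], 0), (([], 2), [(61, 1)], 0), (([], 2), [(62, 1)], 0), (([], 2), [(63, 1)], 0),
  (([], 2), [(64, 1)], 0), (([(65, 1)], 0), [], 0), (([], 2), [(66, 1)], 0), (([(67, 1)], 0), [], 0),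
  (([], 2), [(68, 1)], 0), (([], 2), [(69, 1)], 0), (([], 2), [(70, 1)], 0), (([], 2), [(71, 1)], 0),
  (([], 2), [(72, 1)], 0), (([], 2), [(73, 1)], 0), (([], 2), [(74, 1)], 0), (([], 2), [(75, 1)], 0),
  (([], 2), [(76, 1)], 0), (([(77, 1)], 0), [], 0)]

/-- the function of the letter 2 -/
def f2 (C : ℕ) : Fn (List (ℕ × ℕ)) 78 := fun (
    x0 x1 x2 x3 x4 x5 x6 x7 x8 x9 x10 x11 x12 x13 x14 x15 x16 x17 x18 x19 x20 x21 x22 x23 x24 x25 x26 x27 x28 x29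
    x30 x31 x32 x33 x34 x35 x36 x37 x38 x39 x40 x41 x42 x43 x44 x45 x46 x47 x48 x49 x50 x51 x52 x53 x54 x55 x56 x57
    x58 x59 x60 x61 x62 x63 x64 x65 x66 x67 x68 x69 x70 x71 x72 x73 x74 x75 x76 x77 : ℕ) => ([
  ((A (M 1 x0) (M 0 C)), (M 0 C)), ((M 2 C), (A (M 1 x1) (M 0 C))), ((M 2 C), (A (M 1 x2) (M 0 C))), ((A (M 1 x3)
  (M 0 C)), (M 0 C)), ((M 2 C), (A (M 1 x4) (M 0 C))), ((M 2 C), (A (M 1 x5) (M 0 C))), ((A (M 1 x6) (M 0 C)),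
  (M 0 C)), ((M 2 C), (A (M 1 x7) (M 0 C))), ((A (M 1 x8) (M 0 C)), (M 0 C)), ((M 2 C), (A (M 1 x9) (M 0 C))),
  ((A (M 1 x10) (M 0 C)), (M 0 C)), ((A (M 1 x11) (M 0 C)), (M 0 C)), ((M 2 C), (A (M 1 x12) (M 0 C))), ((M 2 C),
  (A (M 1 x13) (M 0 C))), ((M 2 C), (A (M 1 x14) (M 0 C))), ((M 2 C), (A (M 1 x15) (M 0 C))), ((A (M 1 x16)
  (M 0 C)), (M 0 C)), ((M 2 C), (A (M 1 x17) (M 0 C))), ((M 2 C), (A (M 1 x18) (M 0 C))), ((M 2 C), (A (M 1 x19)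
  (M 0 C))), ((M 2 C), (A (M 1 x20) (M 0 C))), ((M 2 C), (A (M 1 x21) (M 0 C))), ((A (M 1 x22) (M 0 C)), (M 0 C)),
  ((M 2 C), (A (M 1 x23) (M 0 C))), ((M 2 C), (A (M 1 x24) (M 0 C))), ((M 2 C), (A (M 1 x25) (M 0 C))),
  ((A (M 1 x26) (M 0 C)), (M 0 C)), ((M 2 C), (A (M 1 x27) (M 0 C))), ((M 2 C), (A (M 1 x28) (M 0 C))), ((M 2 C),
  (A (M 1 x29) (M 0 C))), ((A (M 1 x30) (M 0 C)), (M 0 C)), ((M 2 C), (A (M 1 x31) (M 0 C))), ((M 2 C), (A (M 1 x32)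
  (M 0 C))), ((A (M 1 x33) (M 0 C)), (M 0 C)), ((M 2 C), (A (M 1 x34) (M 0 C))), ((A (M 1 x35) (M 0 C)), (M 0 C)),
  ((M 2 C), (A (M 1 x36) (M 0 C))), ((M 2 C), (A (M 1 x37) (M 0 C))), ((M 2 C), (A (M 1 x38) (M 0 C))), ((M 2 C),
  (A (M 1 x39) (M 0 C))), ((A (M 1 x40) (M 0 C)), (M 0 C)), ((M 2 C), (A (M 1 x41) (M 0 C))), ((M 2 C), (A (M 1 x42)
  (M 0 C))), ((A (M 1 x43) (M 0 C)), (M 0 C)), ((M 2 C), (A (M 1 x44) (M 0 C))), ((M 2 C), (A (M 1 x45) (M 0 C))),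
  ((A (M 1 x46) (M 0 C)), (M 0 C)), ((A (M 1 x47) (M 0 C)), (M 0 C)), ((M 2 C), (A (M 1 x48) (M 0 C))), ((M 2 C),
  (A (M 1 x49) (M 0 C))), ((M 2 C), (A (M 1 x50) (M 0 C))), ((M 2 C), (A (M 1 x51) (M 0 C))), ((A (M 1 x52)
  (M 0 C)), (M 0 C)), ((M 2 C), (A (M 1 x53) (M 0 C))), ((M 2 C), (A (M 1 x54) (M 0 C))), ((M 2 C), (A (M 1 x55)
  (M 0 C))), ((M 2 C), (A (M 1 x56) (M 0 C))), ((M 2 C), (A (M 1 x57) (M 0 C))), ((A (M 1 x58) (M 0 C)), (M 0 C)),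
  ((A (M 1 x59) (M 0 C)), (M 0 C)), ((M 2 C), (A (M 1 x60) (M 0 C))), ((M 2 C), (A (M 1 x61) (M 0 C))), ((M 2 C),
  (A (M 1 x62) (M 0 C))), ((M 2 C), (A (M 1 x63) (M 0 C))), ((M 2 C), (A (M 1 x64) (M 0 C))), ((A (M 1 x65)
  (M 0 C)), (M 0 C)), ((M 2 C), (A (M 1 x66) (M 0 C))), ((A (M 1 x67) (M 0 C)), (M 0 C)), ((M 2 C), (A (M 1 x68)
  (M 0 C))), ((M 2 C), (A (M 1 x69) (M 0 C))), ((M 2 C), (A (M 1 x70) (M 0 C))), ((M 2 C), (A (M 1 x71) (M 0 C))),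
  ((M 2 C), (A (M 1 x72) (M 0 C))), ((M 2 C), (A (M 1 x73) (M 0 C))), ((M 2 C), (A (M 1 x74) (M 0 C))), ((M 2 C),
  (A (M 1 x75) (M 0 C))), ((M 2 C), (A (M 1 x76) (M 0 C))), ((A (M 1 x77) (M 0 C)), (M 0 C))] : List (ℕ × ℕ))

theorem f2_eq : f2 = fnOf 78 m2 := rfl

/-- the letter 3 -/
def m3 : List Row := [
  (([(14, 2)], 4), [(0, 2)], 0), (([], 12), [(1, 2), (5, 2), (25, 2), (77, 2)], 0), (([], 12), [(2, 2), (4, 2),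
  (55, 2), (67, 2)], 0), (([], 12), [(3, 2), (34, 2), (44, 2), (66, 2)], 0), (([(55, 2), (67, 2)], 4), [(2, 2),
  (4, 2)], 0), (([(25, 2), (77, 2)], 4), [(1, 2), (5, 2)], 0), (([(39, 2), (63, 2)], 4), [(6, 2), (41, 2)], 0),
  (([(24, 2), (69, 2)], 4), [(7, 2), (43, 2)], 0), (([(38, 2), (62, 2)], 4), [(8, 2), (42, 2)], 0),
  (([], 12), [(9, 2), (23, 2), (30, 2), (73, 2)], 0), (([], 12), [(10, 2), (31, 2), (50, 2), (61, 2)], 0),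
  (([], 12), [(11, 2), (29, 2), (51, 2), (60, 2)], 0), (([(13, 1), (20, 1), (33, 1), (46, 1), (52, 1), (53, 1),
  (58, 1), (74, 1)], 4), [(12, 1), (21, 1), (40, 1), (54, 1), (59, 1), (70, 1), (72, 1), (76, 1)], 0), (([(12, 1),
  (21, 1), (33, 1), (46, 1), (52, 1), (54, 1), (59, 1), (74, 1)], 4), [(13, 1), (20, 1), (40, 1), (53, 1), (58, 1),
  (70, 1), (72, 1), (76, 1)], 0), (([(0, 6), (14, 2)], 0), [], 4), (([], 12), [(15, 2), (17, 2), (56, 2),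
  (65, 2)], 0), (([], 12), [(16, 2), (37, 2), (48, 2), (68, 2)], 0), (([(56, 2), (65, 2)], 4), [(15, 2),
  (17, 2)], 0), (([(28, 2), (71, 2)], 4), [(18, 2), (47, 2)], 0), (([], 12), [(19, 2), (27, 2), (35, 2),
  (75, 2)], 0), (([(12, 1), (21, 1), (40, 1), (46, 1), (52, 1), (53, 1), (58, 1), (76, 1)], 4), [(13, 1), (20, 1),
  (33, 1), (54, 1), (59, 1), (70, 1), (72, 1), (74, 1)], 0), (([(13, 1), (20, 1), (40, 1), (46, 1), (52, 1),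
  (54, 1), (59, 1), (76, 1)], 4), [(12, 1), (21, 1), (33, 1), (53, 1), (58, 1), (70, 1), (72, 1), (74, 1)], 0),
  (([(32, 2), (57, 2)], 4), [(22, 2), (45, 2)], 0), (([(30, 2), (73, 2)], 4), [(9, 2), (23, 2)], 0), (([(7, 2),
  (69, 2)], 4), [(24, 2), (43, 2)], 0), (([(5, 2), (77, 2)], 4), [(1, 2), (25, 2)], 0), (([(36, 2),
  (64, 2)], 4), [(26, 2), (49, 2)], 0), (([(35, 2), (75, 2)], 4), [(19, 2), (27, 2)], 0), (([(18, 2),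
  (71, 2)], 4), [(28, 2), (47, 2)], 0), (([(51, 2), (60, 2)], 4), [(11, 2), (29, 2)], 0), (([(23, 2),
  (73, 2)], 4), [(9, 2), (30, 2)], 0), (([(50, 2), (61, 2)], 4), [(10, 2), (31, 2)], 0), (([(22, 2),
  (57, 2)], 4), [(32, 2), (45, 2)], 0), (([(12, 1), (13, 1), (40, 1), (52, 1), (53, 1), (54, 1), (70, 1),
  (74, 1)], 4), [(20, 1), (21, 1), (33, 1), (46, 1), (58, 1), (59, 1), (72, 1), (76, 1)], 0), (([(44, 2),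
  (66, 2)], 4), [(3, 2), (34, 2)], 0), (([(27, 2), (75, 2)], 4), [(19, 2), (35, 2)], 0), (([(26, 2),
  (64, 2)], 4), [(36, 2), (49, 2)], 0), (([(48, 2), (68, 2)], 4), [(16, 2), (37, 2)], 0), (([(8, 2),
  (62, 2)], 4), [(38, 2), (42, 2)], 0), (([(6, 2), (63, 2)], 4), [(39, 2), (41, 2)], 0), (([(20, 1), (21, 1),
  (33, 1), (52, 1), (53, 1), (54, 1), (70, 1), (76, 1)], 4), [(12, 1), (13, 1), (40, 1), (46, 1), (58, 1), (59, 1),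
  (72, 1), (74, 1)], 0), (([], 12), [(6, 2), (39, 2), (41, 2), (63, 2)], 0), (([], 12), [(8, 2), (38, 2), (42, 2),
  (62, 2)], 0), (([], 12), [(7, 2), (24, 2), (43, 2), (69, 2)], 0), (([(34, 2), (66, 2)], 4), [(3, 2), (44, 2)], 0),
  (([], 12), [(22, 2), (32, 2), (45, 2), (57, 2)], 0), (([(12, 1), (13, 1), (20, 1), (21, 1), (53, 1), (54, 1),
  (58, 1), (59, 1)], 4), [(33, 1), (40, 1), (46, 1), (52, 1), (70, 1), (72, 1), (74, 1), (76, 1)], 0),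
  (([], 12), [(18, 2), (28, 2), (47, 2), (71, 2)], 0), (([(37, 2), (68, 2)], 4), [(16, 2), (48, 2)], 0),
  (([], 12), [(26, 2), (36, 2), (49, 2), (64, 2)], 0), (([(31, 2), (61, 2)], 4), [(10, 2), (50, 2)], 0), (([(29, 2),
  (60, 2)], 4), [(11, 2), (51, 2)], 0), (([(12, 1), (13, 1), (20, 1), (21, 1), (33, 1), (40, 1), (74, 1),
  (76, 1)], 4), [(46, 1), (52, 1), (53, 1), (54, 1), (58, 1), (59, 1), (70, 1), (72, 1)], 0), (([(12, 1), (20, 1),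
  (33, 1), (40, 1), (46, 1), (54, 1), (58, 1), (70, 1)], 4), [(13, 1), (21, 1), (52, 1), (53, 1), (59, 1), (72, 1),
  (74, 1), (76, 1)], 0), (([(13, 1), (21, 1), (33, 1), (40, 1), (46, 1), (53, 1), (59, 1), (70, 1)], 4), [(12, 1),
  (20, 1), (52, 1), (54, 1), (58, 1), (72, 1), (74, 1), (76, 1)], 0), (([(4, 2), (67, 2)], 4), [(2, 2),
  (55, 2)], 0), (([(17, 2), (65, 2)], 4), [(15, 2), (56, 2)], 0), (([(22, 2), (32, 2)], 4), [(45, 2), (57, 2)], 0),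
  (([(12, 1), (20, 1), (46, 1), (53, 1), (59, 1), (70, 1), (74, 1), (76, 1)], 4), [(13, 1), (21, 1), (33, 1),
  (40, 1), (52, 1), (54, 1), (58, 1), (72, 1)], 0), (([(13, 1), (21, 1), (46, 1), (54, 1), (58, 1), (70, 1),
  (74, 1), (76, 1)], 4), [(12, 1), (20, 1), (33, 1), (40, 1), (52, 1), (53, 1), (59, 1), (72, 1)], 0), (([(29, 2),
  (51, 2)], 4), [(11, 2), (60, 2)], 0), (([(31, 2), (50, 2)], 4), [(10, 2), (61, 2)], 0), (([(8, 2),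
  (38, 2)], 4), [(42, 2), (62, 2)], 0), (([(6, 2), (39, 2)], 4), [(41, 2), (63, 2)], 0), (([(26, 2),
  (36, 2)], 4), [(49, 2), (64, 2)], 0), (([(17, 2), (56, 2)], 4), [(15, 2), (65, 2)], 0), (([(34, 2),
  (44, 2)], 4), [(3, 2), (66, 2)], 0), (([(4, 2), (55, 2)], 4), [(2, 2), (67, 2)], 0), (([(37, 2),
  (48, 2)], 4), [(16, 2), (68, 2)], 0), (([(7, 2), (24, 2)], 4), [(43, 2), (69, 2)], 0), (([(33, 1), (40, 1),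
  (53, 1), (54, 1), (58, 1), (59, 1), (74, 1), (76, 1)], 4), [(12, 1), (13, 1), (20, 1), (21, 1), (46, 1), (52, 1),
  (70, 1), (72, 1)], 0), (([(18, 2), (28, 2)], 4), [(47, 2), (71, 2)], 0), (([], 20), [(12, 1), (13, 1), (20, 1),
  (21, 1), (33, 1), (40, 1), (46, 1), (52, 1), (53, 1), (54, 1), (58, 1), (59, 1), (70, 1), (72, 1), (74, 1),
  (76, 1)], 0), (([(23, 2), (30, 2)], 4), [(9, 2), (73, 2)], 0), (([(12, 1), (13, 1), (33, 1), (52, 1), (58, 1),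
  (59, 1), (70, 1), (76, 1)], 4), [(20, 1), (21, 1), (40, 1), (46, 1), (53, 1), (54, 1), (72, 1), (74, 1)], 0),
  (([(27, 2), (35, 2)], 4), [(19, 2), (75, 2)], 0), (([(20, 1), (21, 1), (40, 1), (52, 1), (58, 1), (59, 1),
  (70, 1), (74, 1)], 4), [(12, 1), (13, 1), (33, 1), (46, 1), (53, 1), (54, 1), (72, 1), (76, 1)], 0), (([(5, 2),
  (25, 2)], 4), [(1, 2), (77, 2)], 0)]

/-- the function of the letter 3 -/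
def f3 (C : ℕ) : Fn (List (ℕ × ℕ)) 78 := fun (
    x0 x1 x2 x3 x4 x5 x6 x7 x8 x9 x10 x11 x12 x13 x14 x15 x16 x17 x18 x19 x20 x21 x22 x23 x24 x25 x26 x27 x28 x29
    x30 x31 x32 x33 x34 x35 x36 x37 x38 x39 x40 x41 x42 x43 x44 x45 x46 x47 x48 x49 x50 x51 x52 x53 x54 x55 x56 x57
    x58 x59 x60 x61 x62 x63 x64 x65 x66 x67 x68 x69 x70 x71 x72 x73 x74 x75 x76 x77 : ℕ) => ([
  ((A (M 2 x14) (M 4 C)), (A (M 2 x0) (M 0 C))), ((M 12 C), (A (M 2 x1) (A (M 2 x5) (A (M 2 x25) (A (M 2 x77)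
  (M 0 C)))))), ((M 12 C), (A (M 2 x2) (A (M 2 x4) (A (M 2 x55) (A (M 2 x67) (M 0 C)))))), ((M 12 C), (A (M 2 x3)
  (A (M 2 x34) (A (M 2 x44) (A (M 2 x66) (M 0 C)))))), ((A (M 2 x55) (A (M 2 x67) (M 4 C))), (A (M 2 x2) (A (M 2 x4)
  (M 0 C)))), ((A (M 2 x25) (A (M 2 x77) (M 4 C))), (A (M 2 x1) (A (M 2 x5) (M 0 C)))), ((A (M 2 x39) (A (M 2 x63)
  (M 4 C))), (A (M 2 x6) (A (M 2 x41) (M 0 C)))), ((A (M 2 x24) (A (M 2 x69) (M 4 C))), (A (M 2 x7) (A (M 2 x43)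
  (M 0 C)))), ((A (M 2 x38) (A (M 2 x62) (M 4 C))), (A (M 2 x8) (A (M 2 x42) (M 0 C)))), ((M 12 C), (A (M 2 x9)
  (A (M 2 x23) (A (M 2 x30) (A (M 2 x73) (M 0 C)))))), ((M 12 C), (A (M 2 x10) (A (M 2 x31) (A (M 2 x50)
  (A (M 2 x61) (M 0 C)))))), ((M 12 C), (A (M 2 x11) (A (M 2 x29) (A (M 2 x51) (A (M 2 x60) (M 0 C)))))),
  ((A (M 1 x13) (A (M 1 x20) (A (M 1 x33) (A (M 1 x46) (A (M 1 x52) (A (M 1 x53) (A (M 1 x58) (A (M 1 x74)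
  (M 4 C))))))))), (A (M 1 x12) (A (M 1 x21) (A (M 1 x40) (A (M 1 x54) (A (M 1 x59) (A (M 1 x70) (A (M 1 x72)
  (A (M 1 x76) (M 0 C)))))))))), ((A (M 1 x12) (A (M 1 x21) (A (M 1 x33) (A (M 1 x46) (A (M 1 x52) (A (M 1 x54)
  (A (M 1 x59) (A (M 1 x74) (M 4 C))))))))), (A (M 1 x13) (A (M 1 x20) (A (M 1 x40) (A (M 1 x53) (A (M 1 x58)
  (A (M 1 x70) (A (M 1 x72) (A (M 1 x76) (M 0 C)))))))))), ((A (M 6 x0) (A (M 2 x14) (M 0 C))), (M 4 C)), ((M 12 C),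
  (A (M 2 x15) (A (M 2 x17) (A (M 2 x56) (A (M 2 x65) (M 0 C)))))), ((M 12 C), (A (M 2 x16) (A (M 2 x37)
  (A (M 2 x48) (A (M 2 x68) (M 0 C)))))), ((A (M 2 x56) (A (M 2 x65) (M 4 C))), (A (M 2 x15) (A (M 2 x17)
  (M 0 C)))), ((A (M 2 x28) (A (M 2 x71) (M 4 C))), (A (M 2 x18) (A (M 2 x47) (M 0 C)))), ((M 12 C), (A (M 2 x19)
  (A (M 2 x27) (A (M 2 x35) (A (M 2 x75) (M 0 C)))))), ((A (M 1 x12) (A (M 1 x21) (A (M 1 x40) (A (M 1 x46)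
  (A (M 1 x52) (A (M 1 x53) (A (M 1 x58) (A (M 1 x76) (M 4 C))))))))), (A (M 1 x13) (A (M 1 x20) (A (M 1 x33)
  (A (M 1 x54) (A (M 1 x59) (A (M 1 x70) (A (M 1 x72) (A (M 1 x74) (M 0 C)))))))))), ((A (M 1 x13) (A (M 1 x20)
  (A (M 1 x40) (A (M 1 x46) (A (M 1 x52) (A (M 1 x54) (A (M 1 x59) (A (M 1 x76) (M 4 C))))))))), (A (M 1 x12)
  (A (M 1 x21) (A (M 1 x33) (A (M 1 x53) (A (M 1 x58) (A (M 1 x70) (A (M 1 x72) (A (M 1 x74) (M 0 C)))))))))),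
  ((A (M 2 x32) (A (M 2 x57) (M 4 C))), (A (M 2 x22) (A (M 2 x45) (M 0 C)))), ((A (M 2 x30) (A (M 2 x73) (M 4 C))),
  (A (M 2 x9) (A (M 2 x23) (M 0 C)))), ((A (M 2 x7) (A (M 2 x69) (M 4 C))), (A (M 2 x24) (A (M 2 x43) (M 0 C)))),
  ((A (M 2 x5) (A (M 2 x77) (M 4 C))), (A (M 2 x1) (A (M 2 x25) (M 0 C)))), ((A (M 2 x36) (A (M 2 x64) (M 4 C))),
  (A (M 2 x26) (A (M 2 x49) (M 0 C)))), ((A (M 2 x35) (A (M 2 x75) (M 4 C))), (A (M 2 x19) (A (M 2 x27) (M 0 C)))),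
  ((A (M 2 x18) (A (M 2 x71) (M 4 C))), (A (M 2 x28) (A (M 2 x47) (M 0 C)))), ((A (M 2 x51) (A (M 2 x60) (M 4 C))),
  (A (M 2 x11) (A (M 2 x29) (M 0 C)))), ((A (M 2 x23) (A (M 2 x73) (M 4 C))), (A (M 2 x9) (A (M 2 x30) (M 0 C)))),
  ((A (M 2 x50) (A (M 2 x61) (M 4 C))), (A (M 2 x10) (A (M 2 x31) (M 0 C)))), ((A (M 2 x22) (A (M 2 x57) (M 4 C))),
  (A (M 2 x32) (A (M 2 x45) (M 0 C)))), ((A (M 1 x12) (A (M 1 x13) (A (M 1 x40) (A (M 1 x52) (A (M 1 x53)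
  (A (M 1 x54) (A (M 1 x70) (A (M 1 x74) (M 4 C))))))))), (A (M 1 x20) (A (M 1 x21) (A (M 1 x33) (A (M 1 x46)
  (A (M 1 x58) (A (M 1 x59) (A (M 1 x72) (A (M 1 x76) (M 0 C)))))))))), ((A (M 2 x44) (A (M 2 x66) (M 4 C))),
  (A (M 2 x3) (A (M 2 x34) (M 0 C)))), ((A (M 2 x27) (A (M 2 x75) (M 4 C))), (A (M 2 x19) (A (M 2 x35) (M 0 C)))),
  ((A (M 2 x26) (A (M 2 x64) (M 4 C))), (A (M 2 x36) (A (M 2 x49) (M 0 C)))), ((A (M 2 x48) (A (M 2 x68) (M 4 C))),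
  (A (M 2 x16) (A (M 2 x37) (M 0 C)))), ((A (M 2 x8) (A (M 2 x62) (M 4 C))), (A (M 2 x38) (A (M 2 x42) (M 0 C)))),
  ((A (M 2 x6) (A (M 2 x63) (M 4 C))), (A (M 2 x39) (A (M 2 x41) (M 0 C)))), ((A (M 1 x20) (A (M 1 x21) (A (M 1 x33)
  (A (M 1 x52) (A (M 1 x53) (A (M 1 x54) (A (M 1 x70) (A (M 1 x76) (M 4 C))))))))), (A (M 1 x12) (A (M 1 x13)
  (A (M 1 x40) (A (M 1 x46) (A (M 1 x58) (A (M 1 x59) (A (M 1 x72) (A (M 1 x74) (M 0 C)))))))))), ((M 12 C),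
  (A (M 2 x6) (A (M 2 x39) (A (M 2 x41) (A (M 2 x63) (M 0 C)))))), ((M 12 C), (A (M 2 x8) (A (M 2 x38) (A (M 2 x42)
  (A (M 2 x62) (M 0 C)))))), ((M 12 C), (A (M 2 x7) (A (M 2 x24) (A (M 2 x43) (A (M 2 x69) (M 0 C)))))),
  ((A (M 2 x34) (A (M 2 x66) (M 4 C))), (A (M 2 x3) (A (M 2 x44) (M 0 C)))), ((M 12 C), (A (M 2 x22) (A (M 2 x32)
  (A (M 2 x45) (A (M 2 x57) (M 0 C)))))), ((A (M 1 x12) (A (M 1 x13) (A (M 1 x20) (A (M 1 x21) (A (M 1 x53)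
  (A (M 1 x54) (A (M 1 x58) (A (M 1 x59) (M 4 C))))))))), (A (M 1 x33) (A (M 1 x40) (A (M 1 x46) (A (M 1 x52)
  (A (M 1 x70) (A (M 1 x72) (A (M 1 x74) (A (M 1 x76) (M 0 C)))))))))), ((M 12 C), (A (M 2 x18) (A (M 2 x28)
  (A (M 2 x47) (A (M 2 x71) (M 0 C)))))), ((A (M 2 x37) (A (M 2 x68) (M 4 C))), (A (M 2 x16) (A (M 2 x48)
  (M 0 C)))), ((M 12 C), (A (M 2 x26) (A (M 2 x36) (A (M 2 x49) (A (M 2 x64) (M 0 C)))))), ((A (M 2 x31)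
  (A (M 2 x61) (M 4 C))), (A (M 2 x10) (A (M 2 x50) (M 0 C)))), ((A (M 2 x29) (A (M 2 x60) (M 4 C))), (A (M 2 x11)
  (A (M 2 x51) (M 0 C)))), ((A (M 1 x12) (A (M 1 x13) (A (M 1 x20) (A (M 1 x21) (A (M 1 x33) (A (M 1 x40)
  (A (M 1 x74) (A (M 1 x76) (M 4 C))))))))), (A (M 1 x46) (A (M 1 x52) (A (M 1 x53) (A (M 1 x54) (A (M 1 x58)
  (A (M 1 x59) (A (M 1 x70) (A (M 1 x72) (M 0 C)))))))))), ((A (M 1 x12) (A (M 1 x20) (A (M 1 x33) (A (M 1 x40)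
  (A (M 1 x46) (A (M 1 x54) (A (M 1 x58) (A (M 1 x70) (M 4 C))))))))), (A (M 1 x13) (A (M 1 x21) (A (M 1 x52)
  (A (M 1 x53) (A (M 1 x59) (A (M 1 x72) (A (M 1 x74) (A (M 1 x76) (M 0 C)))))))))), ((A (M 1 x13) (A (M 1 x21)
  (A (M 1 x33) (A (M 1 x40) (A (M 1 x46) (A (M 1 x53) (A (M 1 x59) (A (M 1 x70) (M 4 C))))))))), (A (M 1 x12)
  (A (M 1 x20) (A (M 1 x52) (A (M 1 x54) (A (M 1 x58) (A (M 1 x72) (A (M 1 x74) (A (M 1 x76) (M 0 C)))))))))),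
  ((A (M 2 x4) (A (M 2 x67) (M 4 C))), (A (M 2 x2) (A (M 2 x55) (M 0 C)))), ((A (M 2 x17) (A (M 2 x65) (M 4 C))),
  (A (M 2 x15) (A (M 2 x56) (M 0 C)))), ((A (M 2 x22) (A (M 2 x32) (M 4 C))), (A (M 2 x45) (A (M 2 x57) (M 0 C)))),
  ((A (M 1 x12) (A (M 1 x20) (A (M 1 x46) (A (M 1 x53) (A (M 1 x59) (A (M 1 x70) (A (M 1 x74) (A (M 1 x76)
  (M 4 C))))))))), (A (M 1 x13) (A (M 1 x21) (A (M 1 x33) (A (M 1 x40) (A (M 1 x52) (A (M 1 x54) (A (M 1 x58)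
  (A (M 1 x72) (M 0 C)))))))))), ((A (M 1 x13) (A (M 1 x21) (A (M 1 x46) (A (M 1 x54) (A (M 1 x58) (A (M 1 x70)
  (A (M 1 x74) (A (M 1 x76) (M 4 C))))))))), (A (M 1 x12) (A (M 1 x20) (A (M 1 x33) (A (M 1 x40) (A (M 1 x52)
  (A (M 1 x53) (A (M 1 x59) (A (M 1 x72) (M 0 C)))))))))), ((A (M 2 x29) (A (M 2 x51) (M 4 C))), (A (M 2 x11)
  (A (M 2 x60) (M 0 C)))), ((A (M 2 x31) (A (M 2 x50) (M 4 C))), (A (M 2 x10) (A (M 2 x61) (M 0 C)))), ((A (M 2 x8)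
  (A (M 2 x38) (M 4 C))), (A (M 2 x42) (A (M 2 x62) (M 0 C)))), ((A (M 2 x6) (A (M 2 x39) (M 4 C))), (A (M 2 x41)
  (A (M 2 x63) (M 0 C)))), ((A (M 2 x26) (A (M 2 x36) (M 4 C))), (A (M 2 x49) (A (M 2 x64) (M 0 C)))), ((A (M 2 x17)
  (A (M 2 x56) (M 4 C))), (A (M 2 x15) (A (M 2 x65) (M 0 C)))), ((A (M 2 x34) (A (M 2 x44) (M 4 C))), (A (M 2 x3)
  (A (M 2 x66) (M 0 C)))), ((A (M 2 x4) (A (M 2 x55) (M 4 C))), (A (M 2 x2) (A (M 2 x67) (M 0 C)))), ((A (M 2 x37)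
  (A (M 2 x48) (M 4 C))), (A (M 2 x16) (A (M 2 x68) (M 0 C)))), ((A (M 2 x7) (A (M 2 x24) (M 4 C))), (A (M 2 x43)
  (A (M 2 x69) (M 0 C)))), ((A (M 1 x33) (A (M 1 x40) (A (M 1 x53) (A (M 1 x54) (A (M 1 x58) (A (M 1 x59)
  (A (M 1 x74) (A (M 1 x76) (M 4 C))))))))), (A (M 1 x12) (A (M 1 x13) (A (M 1 x20) (A (M 1 x21) (A (M 1 x46)
  (A (M 1 x52) (A (M 1 x70) (A (M 1 x72) (M 0 C)))))))))), ((A (M 2 x18) (A (M 2 x28) (M 4 C))), (A (M 2 x47)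
  (A (M 2 x71) (M 0 C)))), ((M 20 C), (A (M 1 x12) (A (M 1 x13) (A (M 1 x20) (A (M 1 x21) (A (M 1 x33) (A (M 1 x40)
  (A (M 1 x46) (A (M 1 x52) (A (M 1 x53) (A (M 1 x54) (A (M 1 x58) (A (M 1 x59) (A (M 1 x70) (A (M 1 x72)
  (A (M 1 x74) (A (M 1 x76) (M 0 C)))))))))))))))))), ((A (M 2 x23) (A (M 2 x30) (M 4 C))), (A (M 2 x9) (A (M 2 x73)
  (M 0 C)))), ((A (M 1 x12) (A (M 1 x13) (A (M 1 x33) (A (M 1 x52) (A (M 1 x58) (A (M 1 x59) (A (M 1 x70)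
  (A (M 1 x76) (M 4 C))))))))), (A (M 1 x20) (A (M 1 x21) (A (M 1 x40) (A (M 1 x46) (A (M 1 x53) (A (M 1 x54)
  (A (M 1 x72) (A (M 1 x74) (M 0 C)))))))))), ((A (M 2 x27) (A (M 2 x35) (M 4 C))), (A (M 2 x19) (A (M 2 x75)
  (M 0 C)))), ((A (M 1 x20) (A (M 1 x21) (A (M 1 x40) (A (M 1 x52) (A (M 1 x58) (A (M 1 x59) (A (M 1 x70)
  (A (M 1 x74) (M 4 C))))))))), (A (M 1 x12) (A (M 1 x13) (A (M 1 x33) (A (M 1 x46) (A (M 1 x53) (A (M 1 x54)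
  (A (M 1 x72) (A (M 1 x76) (M 0 C)))))))))), ((A (M 2 x5) (A (M 2 x25) (M 4 C))), (A (M 2 x1) (A (M 2 x77)
  (M 0 C))))] : List (ℕ × ℕ))

theorem f3_eq : f3 = fnOf 78 m3 := rfl

/-- the letter 4 -/
def m4 : List Row := [
  (([(0, 1)], 0), [], 0), (([], 2), [(1, 1)], 0), (([(2, 1)], 0), [], 0), (([(3, 1)], 0), [], 0),
  (([], 2), [(4, 1)], 0), (([(5, 1)], 0), [], 0), (([], 2), [(6, 1)], 0), (([], 2), [(7, 1)], 0),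
  (([], 2), [(8, 1)], 0), (([], 2), [(9, 1)], 0), (([(10, 1)], 0), [], 0), (([], 2), [(11, 1)], 0),
  (([], 2), [(12, 1)], 0), (([(13, 1)], 0), [], 0), (([], 2), [(14, 1)], 0), (([(15, 1)], 0), [], 0),
  (([], 2), [(16, 1)], 0), (([], 2), [(17, 1)], 0), (([(18, 1)], 0), [], 0), (([], 2), [(19, 1)], 0),
  (([], 2), [(20, 1)], 0), (([(21, 1)], 0), [], 0), (([], 2), [(22, 1)], 0), (([], 2), [(23, 1)], 0),
  (([(24, 1)], 0), [], 0), (([], 2), [(25, 1)], 0), (([], 2), [(26, 1)], 0), (([], 2), [(27, 1)], 0),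
  (([], 2), [(28, 1)], 0), (([], 2), [(29, 1)], 0), (([], 2), [(30, 1)], 0), (([], 2), [(31, 1)], 0),
  (([(32, 1)], 0), [], 0), (([], 2), [(33, 1)], 0), (([], 2), [(34, 1)], 0), (([(35, 1)], 0), [], 0),
  (([], 2), [(36, 1)], 0), (([], 2), [(37, 1)], 0), (([(38, 1)], 0), [], 0), (([], 2), [(39, 1)], 0),
  (([], 2), [(40, 1)], 0), (([(41, 1)], 0), [], 0), (([], 2), [(42, 1)], 0), (([], 2), [(43, 1)], 0),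
  (([], 2), [(44, 1)], 0), (([], 2), [(45, 1)], 0), (([], 2), [(46, 1)], 0), (([], 2), [(47, 1)], 0),
  (([], 2), [(48, 1)], 0), (([(49, 1)], 0), [], 0), (([], 2), [(50, 1)], 0), (([], 2), [(51, 1)], 0),
  (([(52, 1)], 0), [], 0), (([(53, 1)], 0), [], 0), (([], 2), [(54, 1)], 0), (([], 2), [(55, 1)], 0),
  (([], 2), [(56, 1)], 0), (([], 2), [(57, 1)], 0), (([(58, 1)], 0), [], 0), (([], 2), [(59, 1)], 0),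
  (([(60, 1)], 0), [], 0), (([], 2), [(61, 1)], 0), (([], 2), [(62, 1)], 0), (([], 2), [(63, 1)], 0),
  (([], 2), [(64, 1)], 0), (([], 2), [(65, 1)], 0), (([], 2), [(66, 1)], 0), (([], 2), [(67, 1)], 0),
  (([(68, 1)], 0), [], 0), (([], 2), [(69, 1)], 0), (([(70, 1)], 0), [], 0), (([], 2), [(71, 1)], 0),
  (([], 2), [(72, 1)], 0), (([(73, 1)], 0), [], 0), (([], 2), [(74, 1)], 0), (([], 2), [(75, 1)], 0),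
  (([], 2), [(76, 1)], 0), (([], 2), [(77, 1)], 0)]

/-- the function of the letter 4 -/
def f4 (C : ℕ) : Fn (List (ℕ × ℕ)) 78 := fun (
    x0 x1 x2 x3 x4 x5 x6 x7 x8 x9 x10 x11 x12 x13 x14 x15 x16 x17 x18 x19 x20 x21 x22 x23 x24 x25 x26 x27 x28 x29
    x30 x31 x32 x33 x34 x35 x36 x37 x38 x39 x40 x41 x42 x43 x44 x45 x46 x47 x48 x49 x50 x51 x52 x53 x54 x55 x56 x57
    x58 x59 x60 x61 x62 x63 x64 x65 x66 x67 x68 x69 x70 x71 x72 x73 x74 x75 x76 x77 : ℕ) => ([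
  ((A (M 1 x0) (M 0 C)), (M 0 C)), ((M 2 C), (A (M 1 x1) (M 0 C))), ((A (M 1 x2) (M 0 C)), (M 0 C)), ((A (M 1 x3)
  (M 0 C)), (M 0 C)), ((M 2 C), (A (M 1 x4) (M 0 C))), ((A (M 1 x5) (M 0 C)), (M 0 C)), ((M 2 C), (A (M 1 x6)
  (M 0 C))), ((M 2 C), (A (M 1 x7) (M 0 C))), ((M 2 C), (A (M 1 x8) (M 0 C))), ((M 2 C), (A (M 1 x9) (M 0 C))),
  ((A (M 1 x10) (M 0 C)), (M 0 C)), ((M 2 C), (A (M 1 x11) (M 0 C))), ((M 2 C), (A (M 1 x12) (M 0 C))),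
  ((A (M 1 x13) (M 0 C)), (M 0 C)), ((M 2 C), (A (M 1 x14) (M 0 C))), ((A (M 1 x15) (M 0 C)), (M 0 C)), ((M 2 C),
  (A (M 1 x16) (M 0 C))), ((M 2 C), (A (M 1 x17) (M 0 C))), ((A (M 1 x18) (M 0 C)), (M 0 C)), ((M 2 C), (A (M 1 x19)
  (M 0 C))), ((M 2 C), (A (M 1 x20) (M 0 C))), ((A (M 1 x21) (M 0 C)), (M 0 C)), ((M 2 C), (A (M 1 x22) (M 0 C))),
  ((M 2 C), (A (M 1 x23) (M 0 C))), ((A (M 1 x24) (M 0 C)), (M 0 C)), ((M 2 C), (A (M 1 x25) (M 0 C))), ((M 2 C),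
  (A (M 1 x26) (M 0 C))), ((M 2 C), (A (M 1 x27) (M 0 C))), ((M 2 C), (A (M 1 x28) (M 0 C))), ((M 2 C), (A (M 1 x29)
  (M 0 C))), ((M 2 C), (A (M 1 x30) (M 0 C))), ((M 2 C), (A (M 1 x31) (M 0 C))), ((A (M 1 x32) (M 0 C)), (M 0 C)),
  ((M 2 C), (A (M 1 x33) (M 0 C))), ((M 2 C), (A (M 1 x34) (M 0 C))), ((A (M 1 x35) (M 0 C)), (M 0 C)), ((M 2 C),
  (A (M 1 x36) (M 0 C))), ((M 2 C), (A (M 1 x37) (M 0 C))), ((A (M 1 x38) (M 0 C)), (M 0 C)), ((M 2 C), (A (M 1 x39)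
  (M 0 C))), ((M 2 C), (A (M 1 x40) (M 0 C))), ((A (M 1 x41) (M 0 C)), (M 0 C)), ((M 2 C), (A (M 1 x42) (M 0 C))),
  ((M 2 C), (A (M 1 x43) (M 0 C))), ((M 2 C), (A (M 1 x44) (M 0 C))), ((M 2 C), (A (M 1 x45) (M 0 C))), ((M 2 C),
  (A (M 1 x46) (M 0 C))), ((M 2 C), (A (M 1 x47) (M 0 C))), ((M 2 C), (A (M 1 x48) (M 0 C))), ((A (M 1 x49)
  (M 0 C)), (M 0 C)), ((M 2 C), (A (M 1 x50) (M 0 C))), ((M 2 C), (A (M 1 x51) (M 0 C))), ((A (M 1 x52) (M 0 C)),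
  (M 0 C)), ((A (M 1 x53) (M 0 C)), (M 0 C)), ((M 2 C), (A (M 1 x54) (M 0 C))), ((M 2 C), (A (M 1 x55) (M 0 C))),
  ((M 2 C), (A (M 1 x56) (M 0 C))), ((M 2 C), (A (M 1 x57) (M 0 C))), ((A (M 1 x58) (M 0 C)), (M 0 C)), ((M 2 C),
  (A (M 1 x59) (M 0 C))), ((A (M 1 x60) (M 0 C)), (M 0 C)), ((M 2 C), (A (M 1 x61) (M 0 C))), ((M 2 C), (A (M 1 x62)
  (M 0 C))), ((M 2 C), (A (M 1 x63) (M 0 C))), ((M 2 C), (A (M 1 x64) (M 0 C))), ((M 2 C), (A (M 1 x65) (M 0 C))),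
  ((M 2 C), (A (M 1 x66) (M 0 C))), ((M 2 C), (A (M 1 x67) (M 0 C))), ((A (M 1 x68) (M 0 C)), (M 0 C)), ((M 2 C),
  (A (M 1 x69) (M 0 C))), ((A (M 1 x70) (M 0 C)), (M 0 C)), ((M 2 C), (A (M 1 x71) (M 0 C))), ((M 2 C), (A (M 1 x72)
  (M 0 C))), ((A (M 1 x73) (M 0 C)), (M 0 C)), ((M 2 C), (A (M 1 x74) (M 0 C))), ((M 2 C), (A (M 1 x75) (M 0 C))),
  ((M 2 C), (A (M 1 x76) (M 0 C))), ((M 2 C), (A (M 1 x77) (M 0 C)))] : List (ℕ × ℕ))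

theorem f4_eq : f4 = fnOf 78 m4 := rfl

/-- the letter 5 -/
def m5 : List Row := [
  (([], 8), [(0, 2), (8, 2)], 0), (([(29, 2), (49, 2), (66, 2)], 0), [(1, 2)], 0), (([(9, 2)], 8), [(2, 2), (50, 2),
  (71, 2)], 0), (([(11, 2), (26, 2), (77, 2)], 0), [(3, 2)], 0), (([(28, 2), (31, 2), (73, 2)], 0), [(4, 2)], 0),
  (([(64, 2)], 8), [(5, 2), (34, 2), (51, 2)], 0), (([(33, 2)], 8), [(6, 2), (52, 2), (65, 2)], 0), (([(13, 2),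
  (48, 2), (72, 2)], 0), [(7, 2)], 0), (([(8, 2)], 8), [(0, 6)], 0), (([(2, 2)], 8), [(9, 2), (50, 2), (71, 2)], 0),
  (([(47, 2)], 8), [(10, 2), (30, 2), (67, 2)], 0), (([(3, 2), (26, 2), (77, 2)], 0), [(11, 2)], 0),
  (([(27, 2)], 8), [(12, 2), (32, 2), (74, 2)], 0), (([(7, 2), (48, 2), (72, 2)], 0), [(13, 2)], 0),
  (([(42, 2)], 8), [(14, 2), (38, 2), (62, 2)], 0), (([(37, 1), (39, 1), (53, 1), (56, 1), (69, 1),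
  (70, 1)], 8), [(15, 1), (19, 1), (20, 1), (24, 1), (41, 1), (45, 1), (57, 1), (68, 1), (75, 1), (76, 1)], 0),
  (([(40, 2), (43, 2), (58, 2)], 0), [(16, 2)], 0), (([(21, 2)], 8), [(17, 2), (54, 2), (63, 2)], 0), (([(23, 2),
  (55, 2), (61, 2)], 0), [(18, 2)], 0), (([(57, 1), (68, 1), (69, 1), (70, 1), (75, 1), (76, 1)], 8), [(15, 1),
  (19, 1), (20, 1), (24, 1), (37, 1), (39, 1), (41, 1), (45, 1), (53, 1), (56, 1)], 0), (([(41, 1), (45, 1),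
  (53, 1), (56, 1), (75, 1), (76, 1)], 8), [(15, 1), (19, 1), (20, 1), (24, 1), (37, 1), (39, 1), (57, 1), (68, 1),
  (69, 1), (70, 1)], 0), (([(17, 2)], 8), [(21, 2), (54, 2), (63, 2)], 0), (([(59, 2)], 8), [(22, 2), (35, 2),
  (46, 2)], 0), (([(18, 2), (55, 2), (61, 2)], 0), [(23, 2)], 0), (([(37, 1), (39, 1), (41, 1), (45, 1), (57, 1),
  (68, 1)], 8), [(15, 1), (19, 1), (20, 1), (24, 1), (53, 1), (56, 1), (69, 1), (70, 1), (75, 1), (76, 1)], 0),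
  (([(36, 2)], 8), [(25, 2), (44, 2), (60, 2)], 0), (([(3, 2), (11, 2), (77, 2)], 0), [(26, 2)], 0),
  (([(12, 2)], 8), [(27, 2), (32, 2), (74, 2)], 0), (([(4, 2), (31, 2), (73, 2)], 0), [(28, 2)], 0), (([(1, 2),
  (49, 2), (66, 2)], 0), [(29, 2)], 0), (([(67, 2)], 8), [(10, 2), (30, 2), (47, 2)], 0), (([(4, 2), (28, 2),
  (73, 2)], 0), [(31, 2)], 0), (([(74, 2)], 8), [(12, 2), (27, 2), (32, 2)], 0), (([(6, 2)], 8), [(33, 2), (52, 2),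
  (65, 2)], 0), (([(51, 2)], 8), [(5, 2), (34, 2), (64, 2)], 0), (([(46, 2)], 8), [(22, 2), (35, 2), (59, 2)], 0),
  (([(25, 2)], 8), [(36, 2), (44, 2), (60, 2)], 0), (([(15, 1), (24, 1), (45, 1), (56, 1), (57, 1),
  (69, 1)], 8), [(19, 1), (20, 1), (37, 1), (39, 1), (41, 1), (53, 1), (68, 1), (70, 1), (75, 1), (76, 1)], 0),
  (([(62, 2)], 8), [(14, 2), (38, 2), (42, 2)], 0), (([(15, 1), (24, 1), (41, 1), (53, 1), (68, 1),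
  (70, 1)], 8), [(19, 1), (20, 1), (37, 1), (39, 1), (45, 1), (56, 1), (57, 1), (69, 1), (75, 1), (76, 1)], 0),
  (([(16, 2), (43, 2), (58, 2)], 0), [(40, 2)], 0), (([(20, 1), (24, 1), (39, 1), (56, 1), (68, 1),
  (76, 1)], 8), [(15, 1), (19, 1), (37, 1), (41, 1), (45, 1), (53, 1), (57, 1), (69, 1), (70, 1), (75, 1)], 0),
  (([(14, 2)], 8), [(38, 2), (42, 2), (62, 2)], 0), (([(16, 2), (40, 2), (58, 2)], 0), [(43, 2)], 0),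
  (([(60, 2)], 8), [(25, 2), (36, 2), (44, 2)], 0), (([(20, 1), (24, 1), (37, 1), (53, 1), (57, 1),
  (75, 1)], 8), [(15, 1), (19, 1), (39, 1), (41, 1), (45, 1), (56, 1), (68, 1), (69, 1), (70, 1), (76, 1)], 0),
  (([(35, 2)], 8), [(22, 2), (46, 2), (59, 2)], 0), (([(10, 2)], 8), [(30, 2), (47, 2), (67, 2)], 0), (([(7, 2),
  (13, 2), (72, 2)], 0), [(48, 2)], 0), (([(1, 2), (29, 2), (66, 2)], 0), [(49, 2)], 0), (([(71, 2)], 8), [(2, 2),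
  (9, 2), (50, 2)], 0), (([(34, 2)], 8), [(5, 2), (51, 2), (64, 2)], 0), (([(65, 2)], 8), [(6, 2), (33, 2),
  (52, 2)], 0), (([(15, 1), (20, 1), (39, 1), (45, 1), (70, 1), (75, 1)], 8), [(19, 1), (24, 1), (37, 1), (41, 1),
  (53, 1), (56, 1), (57, 1), (68, 1), (69, 1), (76, 1)], 0), (([(63, 2)], 8), [(17, 2), (21, 2), (54, 2)], 0),
  (([(18, 2), (23, 2), (61, 2)], 0), [(55, 2)], 0), (([(15, 1), (20, 1), (37, 1), (41, 1), (69, 1),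
  (76, 1)], 8), [(19, 1), (24, 1), (39, 1), (45, 1), (53, 1), (56, 1), (57, 1), (68, 1), (70, 1), (75, 1)], 0),
  (([(19, 1), (24, 1), (37, 1), (45, 1), (70, 1), (76, 1)], 8), [(15, 1), (20, 1), (39, 1), (41, 1), (53, 1),
  (56, 1), (57, 1), (68, 1), (69, 1), (75, 1)], 0), (([(16, 2), (40, 2), (43, 2)], 0), [(58, 2)], 0),
  (([(22, 2)], 8), [(35, 2), (46, 2), (59, 2)], 0), (([(44, 2)], 8), [(25, 2), (36, 2), (60, 2)], 0), (([(18, 2),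
  (23, 2), (55, 2)], 0), [(61, 2)], 0), (([(38, 2)], 8), [(14, 2), (42, 2), (62, 2)], 0), (([(54, 2)], 8), [(17, 2),
  (21, 2), (63, 2)], 0), (([(5, 2)], 8), [(34, 2), (51, 2), (64, 2)], 0), (([(52, 2)], 8), [(6, 2), (33, 2),
  (65, 2)], 0), (([(1, 2), (29, 2), (49, 2)], 0), [(66, 2)], 0), (([(30, 2)], 8), [(10, 2), (47, 2), (67, 2)], 0),
  (([(19, 1), (24, 1), (39, 1), (41, 1), (69, 1), (75, 1)], 8), [(15, 1), (20, 1), (37, 1), (45, 1), (53, 1),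
  (56, 1), (57, 1), (68, 1), (70, 1), (76, 1)], 0), (([(15, 1), (19, 1), (37, 1), (56, 1), (68, 1),
  (75, 1)], 8), [(20, 1), (24, 1), (39, 1), (41, 1), (45, 1), (53, 1), (57, 1), (69, 1), (70, 1), (76, 1)], 0),
  (([(15, 1), (19, 1), (39, 1), (53, 1), (57, 1), (76, 1)], 8), [(20, 1), (24, 1), (37, 1), (41, 1), (45, 1),
  (56, 1), (68, 1), (69, 1), (70, 1), (75, 1)], 0), (([(50, 2)], 8), [(2, 2), (9, 2), (71, 2)], 0), (([(7, 2),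
  (13, 2), (48, 2)], 0), [(72, 2)], 0), (([(4, 2), (28, 2), (31, 2)], 0), [(73, 2)], 0), (([(32, 2)], 8), [(12, 2),
  (27, 2), (74, 2)], 0), (([(19, 1), (20, 1), (45, 1), (53, 1), (68, 1), (69, 1)], 8), [(15, 1), (24, 1), (37, 1),
  (39, 1), (41, 1), (56, 1), (57, 1), (70, 1), (75, 1), (76, 1)], 0), (([(19, 1), (20, 1), (41, 1), (56, 1),
  (57, 1), (70, 1)], 8), [(15, 1), (24, 1), (37, 1), (39, 1), (45, 1), (53, 1), (68, 1), (69, 1), (75, 1),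
  (76, 1)], 0), (([(3, 2), (11, 2), (26, 2)], 0), [(77, 2)], 0)]

/-- the function of the letter 5 -/
def f5 (C : ℕ) : Fn (List (ℕ × ℕ)) 78 := fun (
    x0 x1 x2 x3 x4 x5 x6 x7 x8 x9 x10 x11 x12 x13 x14 x15 x16 x17 x18 x19 x20 x21 x22 x23 x24 x25 x26 x27 x28 x29
    x30 x31 x32 x33 x34 x35 x36 x37 x38 x39 x40 x41 x42 x43 x44 x45 x46 x47 x48 x49 x50 x51 x52 x53 x54 x55 x56 x57
    x58 x59 x60 x61 x62 x63 x64 x65 x66 x67 x68 x69 x70 x71 x72 x73 x74 x75 x76 x77 : ℕ) => ([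
  ((M 8 C), (A (M 2 x0) (A (M 2 x8) (M 0 C)))), ((A (M 2 x29) (A (M 2 x49) (A (M 2 x66) (M 0 C)))), (A (M 2 x1)
  (M 0 C))), ((A (M 2 x9) (M 8 C)), (A (M 2 x2) (A (M 2 x50) (A (M 2 x71) (M 0 C))))), ((A (M 2 x11) (A (M 2 x26)
  (A (M 2 x77) (M 0 C)))), (A (M 2 x3) (M 0 C))), ((A (M 2 x28) (A (M 2 x31) (A (M 2 x73) (M 0 C)))), (A (M 2 x4)
  (M 0 C))), ((A (M 2 x64) (M 8 C)), (A (M 2 x5) (A (M 2 x34) (A (M 2 x51) (M 0 C))))), ((A (M 2 x33) (M 8 C)),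
  (A (M 2 x6) (A (M 2 x52) (A (M 2 x65) (M 0 C))))), ((A (M 2 x13) (A (M 2 x48) (A (M 2 x72) (M 0 C)))), (A (M 2 x7)
  (M 0 C))), ((A (M 2 x8) (M 8 C)), (A (M 6 x0) (M 0 C))), ((A (M 2 x2) (M 8 C)), (A (M 2 x9) (A (M 2 x50)
  (A (M 2 x71) (M 0 C))))), ((A (M 2 x47) (M 8 C)), (A (M 2 x10) (A (M 2 x30) (A (M 2 x67) (M 0 C))))), ((A (M 2 x3)
  (A (M 2 x26) (A (M 2 x77) (M 0 C)))), (A (M 2 x11) (M 0 C))), ((A (M 2 x27) (M 8 C)), (A (M 2 x12) (A (M 2 x32)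
  (A (M 2 x74) (M 0 C))))), ((A (M 2 x7) (A (M 2 x48) (A (M 2 x72) (M 0 C)))), (A (M 2 x13) (M 0 C))), ((A (M 2 x42)
  (M 8 C)), (A (M 2 x14) (A (M 2 x38) (A (M 2 x62) (M 0 C))))), ((A (M 1 x37) (A (M 1 x39) (A (M 1 x53) (A (M 1 x56)
  (A (M 1 x69) (A (M 1 x70) (M 8 C))))))), (A (M 1 x15) (A (M 1 x19) (A (M 1 x20) (A (M 1 x24) (A (M 1 x41)
  (A (M 1 x45) (A (M 1 x57) (A (M 1 x68) (A (M 1 x75) (A (M 1 x76) (M 0 C)))))))))))), ((A (M 2 x40) (A (M 2 x43)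
  (A (M 2 x58) (M 0 C)))), (A (M 2 x16) (M 0 C))), ((A (M 2 x21) (M 8 C)), (A (M 2 x17) (A (M 2 x54) (A (M 2 x63)
  (M 0 C))))), ((A (M 2 x23) (A (M 2 x55) (A (M 2 x61) (M 0 C)))), (A (M 2 x18) (M 0 C))), ((A (M 1 x57)
  (A (M 1 x68) (A (M 1 x69) (A (M 1 x70) (A (M 1 x75) (A (M 1 x76) (M 8 C))))))), (A (M 1 x15) (A (M 1 x19)
  (A (M 1 x20) (A (M 1 x24) (A (M 1 x37) (A (M 1 x39) (A (M 1 x41) (A (M 1 x45) (A (M 1 x53) (A (M 1 x56)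
  (M 0 C)))))))))))), ((A (M 1 x41) (A (M 1 x45) (A (M 1 x53) (A (M 1 x56) (A (M 1 x75) (A (M 1 x76) (M 8 C))))))),
  (A (M 1 x15) (A (M 1 x19) (A (M 1 x20) (A (M 1 x24) (A (M 1 x37) (A (M 1 x39) (A (M 1 x57) (A (M 1 x68)
  (A (M 1 x69) (A (M 1 x70) (M 0 C)))))))))))), ((A (M 2 x17) (M 8 C)), (A (M 2 x21) (A (M 2 x54) (A (M 2 x63)
  (M 0 C))))), ((A (M 2 x59) (M 8 C)), (A (M 2 x22) (A (M 2 x35) (A (M 2 x46) (M 0 C))))), ((A (M 2 x18)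
  (A (M 2 x55) (A (M 2 x61) (M 0 C)))), (A (M 2 x23) (M 0 C))), ((A (M 1 x37) (A (M 1 x39) (A (M 1 x41) (A (M 1 x45)
  (A (M 1 x57) (A (M 1 x68) (M 8 C))))))), (A (M 1 x15) (A (M 1 x19) (A (M 1 x20) (A (M 1 x24) (A (M 1 x53)
  (A (M 1 x56) (A (M 1 x69) (A (M 1 x70) (A (M 1 x75) (A (M 1 x76) (M 0 C)))))))))))), ((A (M 2 x36) (M 8 C)),
  (A (M 2 x25) (A (M 2 x44) (A (M 2 x60) (M 0 C))))), ((A (M 2 x3) (A (M 2 x11) (A (M 2 x77) (M 0 C)))),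
  (A (M 2 x26) (M 0 C))), ((A (M 2 x12) (M 8 C)), (A (M 2 x27) (A (M 2 x32) (A (M 2 x74) (M 0 C))))), ((A (M 2 x4)
  (A (M 2 x31) (A (M 2 x73) (M 0 C)))), (A (M 2 x28) (M 0 C))), ((A (M 2 x1) (A (M 2 x49) (A (M 2 x66) (M 0 C)))),
  (A (M 2 x29) (M 0 C))), ((A (M 2 x67) (M 8 C)), (A (M 2 x10) (A (M 2 x30) (A (M 2 x47) (M 0 C))))), ((A (M 2 x4)
  (A (M 2 x28) (A (M 2 x73) (M 0 C)))), (A (M 2 x31) (M 0 C))), ((A (M 2 x74) (M 8 C)), (A (M 2 x12) (A (M 2 x27)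
  (A (M 2 x32) (M 0 C))))), ((A (M 2 x6) (M 8 C)), (A (M 2 x33) (A (M 2 x52) (A (M 2 x65) (M 0 C))))), ((A (M 2 x51)
  (M 8 C)), (A (M 2 x5) (A (M 2 x34) (A (M 2 x64) (M 0 C))))), ((A (M 2 x46) (M 8 C)), (A (M 2 x22) (A (M 2 x35)
  (A (M 2 x59) (M 0 C))))), ((A (M 2 x25) (M 8 C)), (A (M 2 x36) (A (M 2 x44) (A (M 2 x60) (M 0 C))))),
  ((A (M 1 x15) (A (M 1 x24) (A (M 1 x45) (A (M 1 x56) (A (M 1 x57) (A (M 1 x69) (M 8 C))))))), (A (M 1 x19)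
  (A (M 1 x20) (A (M 1 x37) (A (M 1 x39) (A (M 1 x41) (A (M 1 x53) (A (M 1 x68) (A (M 1 x70) (A (M 1 x75)
  (A (M 1 x76) (M 0 C)))))))))))), ((A (M 2 x62) (M 8 C)), (A (M 2 x14) (A (M 2 x38) (A (M 2 x42) (M 0 C))))),
  ((A (M 1 x15) (A (M 1 x24) (A (M 1 x41) (A (M 1 x53) (A (M 1 x68) (A (M 1 x70) (M 8 C))))))), (A (M 1 x19)
  (A (M 1 x20) (A (M 1 x37) (A (M 1 x39) (A (M 1 x45) (A (M 1 x56) (A (M 1 x57) (A (M 1 x69) (A (M 1 x75)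
  (A (M 1 x76) (M 0 C)))))))))))), ((A (M 2 x16) (A (M 2 x43) (A (M 2 x58) (M 0 C)))), (A (M 2 x40) (M 0 C))),
  ((A (M 1 x20) (A (M 1 x24) (A (M 1 x39) (A (M 1 x56) (A (M 1 x68) (A (M 1 x76) (M 8 C))))))), (A (M 1 x15)
  (A (M 1 x19) (A (M 1 x37) (A (M 1 x41) (A (M 1 x45) (A (M 1 x53) (A (M 1 x57) (A (M 1 x69) (A (M 1 x70)
  (A (M 1 x75) (M 0 C)))))))))))), ((A (M 2 x14) (M 8 C)), (A (M 2 x38) (A (M 2 x42) (A (M 2 x62) (M 0 C))))),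
  ((A (M 2 x16) (A (M 2 x40) (A (M 2 x58) (M 0 C)))), (A (M 2 x43) (M 0 C))), ((A (M 2 x60) (M 8 C)), (A (M 2 x25)
  (A (M 2 x36) (A (M 2 x44) (M 0 C))))), ((A (M 1 x20) (A (M 1 x24) (A (M 1 x37) (A (M 1 x53) (A (M 1 x57)
  (A (M 1 x75) (M 8 C))))))), (A (M 1 x15) (A (M 1 x19) (A (M 1 x39) (A (M 1 x41) (A (M 1 x45) (A (M 1 x56)
  (A (M 1 x68) (A (M 1 x69) (A (M 1 x70) (A (M 1 x76) (M 0 C)))))))))))), ((A (M 2 x35) (M 8 C)), (A (M 2 x22)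
  (A (M 2 x46) (A (M 2 x59) (M 0 C))))), ((A (M 2 x10) (M 8 C)), (A (M 2 x30) (A (M 2 x47) (A (M 2 x67) (M 0 C))))),
  ((A (M 2 x7) (A (M 2 x13) (A (M 2 x72) (M 0 C)))), (A (M 2 x48) (M 0 C))), ((A (M 2 x1) (A (M 2 x29) (A (M 2 x66)
  (M 0 C)))), (A (M 2 x49) (M 0 C))), ((A (M 2 x71) (M 8 C)), (A (M 2 x2) (A (M 2 x9) (A (M 2 x50) (M 0 C))))),
  ((A (M 2 x34) (M 8 C)), (A (M 2 x5) (A (M 2 x51) (A (M 2 x64) (M 0 C))))), ((A (M 2 x65) (M 8 C)), (A (M 2 x6)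
  (A (M 2 x33) (A (M 2 x52) (M 0 C))))), ((A (M 1 x15) (A (M 1 x20) (A (M 1 x39) (A (M 1 x45) (A (M 1 x70)
  (A (M 1 x75) (M 8 C))))))), (A (M 1 x19) (A (M 1 x24) (A (M 1 x37) (A (M 1 x41) (A (M 1 x53) (A (M 1 x56)
  (A (M 1 x57) (A (M 1 x68) (A (M 1 x69) (A (M 1 x76) (M 0 C)))))))))))), ((A (M 2 x63) (M 8 C)), (A (M 2 x17)
  (A (M 2 x21) (A (M 2 x54) (M 0 C))))), ((A (M 2 x18) (A (M 2 x23) (A (M 2 x61) (M 0 C)))), (A (M 2 x55) (M 0 C))),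
  ((A (M 1 x15) (A (M 1 x20) (A (M 1 x37) (A (M 1 x41) (A (M 1 x69) (A (M 1 x76) (M 8 C))))))), (A (M 1 x19)
  (A (M 1 x24) (A (M 1 x39) (A (M 1 x45) (A (M 1 x53) (A (M 1 x56) (A (M 1 x57) (A (M 1 x68) (A (M 1 x70)
  (A (M 1 x75) (M 0 C)))))))))))), ((A (M 1 x19) (A (M 1 x24) (A (M 1 x37) (A (M 1 x45) (A (M 1 x70) (A (M 1 x76)
  (M 8 C))))))), (A (M 1 x15) (A (M 1 x20) (A (M 1 x39) (A (M 1 x41) (A (M 1 x53) (A (M 1 x56) (A (M 1 x57)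
  (A (M 1 x68) (A (M 1 x69) (A (M 1 x75) (M 0 C)))))))))))), ((A (M 2 x16) (A (M 2 x40) (A (M 2 x43) (M 0 C)))),
  (A (M 2 x58) (M 0 C))), ((A (M 2 x22) (M 8 C)), (A (M 2 x35) (A (M 2 x46) (A (M 2 x59) (M 0 C))))), ((A (M 2 x44)
  (M 8 C)), (A (M 2 x25) (A (M 2 x36) (A (M 2 x60) (M 0 C))))), ((A (M 2 x18) (A (M 2 x23) (A (M 2 x55) (M 0 C)))),
  (A (M 2 x61) (M 0 C))), ((A (M 2 x38) (M 8 C)), (A (M 2 x14) (A (M 2 x42) (A (M 2 x62) (M 0 C))))), ((A (M 2 x54)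
  (M 8 C)), (A (M 2 x17) (A (M 2 x21) (A (M 2 x63) (M 0 C))))), ((A (M 2 x5) (M 8 C)), (A (M 2 x34) (A (M 2 x51)
  (A (M 2 x64) (M 0 C))))), ((A (M 2 x52) (M 8 C)), (A (M 2 x6) (A (M 2 x33) (A (M 2 x65) (M 0 C))))), ((A (M 2 x1)
  (A (M 2 x29) (A (M 2 x49) (M 0 C)))), (A (M 2 x66) (M 0 C))), ((A (M 2 x30) (M 8 C)), (A (M 2 x10) (A (M 2 x47)
  (A (M 2 x67) (M 0 C))))), ((A (M 1 x19) (A (M 1 x24) (A (M 1 x39) (A (M 1 x41) (A (M 1 x69) (A (M 1 x75)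
  (M 8 C))))))), (A (M 1 x15) (A (M 1 x20) (A (M 1 x37) (A (M 1 x45) (A (M 1 x53) (A (M 1 x56) (A (M 1 x57)
  (A (M 1 x68) (A (M 1 x70) (A (M 1 x76) (M 0 C)))))))))))), ((A (M 1 x15) (A (M 1 x19) (A (M 1 x37) (A (M 1 x56)
  (A (M 1 x68) (A (M 1 x75) (M 8 C))))))), (A (M 1 x20) (A (M 1 x24) (A (M 1 x39) (A (M 1 x41) (A (M 1 x45)
  (A (M 1 x53) (A (M 1 x57) (A (M 1 x69) (A (M 1 x70) (A (M 1 x76) (M 0 C)))))))))))), ((A (M 1 x15) (A (M 1 x19)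
  (A (M 1 x39) (A (M 1 x53) (A (M 1 x57) (A (M 1 x76) (M 8 C))))))), (A (M 1 x20) (A (M 1 x24) (A (M 1 x37)
  (A (M 1 x41) (A (M 1 x45) (A (M 1 x56) (A (M 1 x68) (A (M 1 x69) (A (M 1 x70) (A (M 1 x75) (M 0 C)))))))))))),
  ((A (M 2 x50) (M 8 C)), (A (M 2 x2) (A (M 2 x9) (A (M 2 x71) (M 0 C))))), ((A (M 2 x7) (A (M 2 x13) (A (M 2 x48)
  (M 0 C)))), (A (M 2 x72) (M 0 C))), ((A (M 2 x4) (A (M 2 x28) (A (M 2 x31) (M 0 C)))), (A (M 2 x73) (M 0 C))),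
  ((A (M 2 x32) (M 8 C)), (A (M 2 x12) (A (M 2 x27) (A (M 2 x74) (M 0 C))))), ((A (M 1 x19) (A (M 1 x20)
  (A (M 1 x45) (A (M 1 x53) (A (M 1 x68) (A (M 1 x69) (M 8 C))))))), (A (M 1 x15) (A (M 1 x24) (A (M 1 x37)
  (A (M 1 x39) (A (M 1 x41) (A (M 1 x56) (A (M 1 x57) (A (M 1 x70) (A (M 1 x75) (A (M 1 x76) (M 0 C)))))))))))),
  ((A (M 1 x19) (A (M 1 x20) (A (M 1 x41) (A (M 1 x56) (A (M 1 x57) (A (M 1 x70) (M 8 C))))))), (A (M 1 x15)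
  (A (M 1 x24) (A (M 1 x37) (A (M 1 x39) (A (M 1 x45) (A (M 1 x53) (A (M 1 x68) (A (M 1 x69) (A (M 1 x75)
  (A (M 1 x76) (M 0 C)))))))))))), ((A (M 2 x3) (A (M 2 x11) (A (M 2 x26) (M 0 C)))), (A (M 2 x77) (M 0 C)))] : List (ℕ × ℕ))

theorem f5_eq : f5 = fnOf 78 m5 := rfl

/-- the letter 6 -/
def m6 : List Row := [
  (([(0, 1)], 0), [], 0), (([], 2), [(1, 1)], 0), (([], 2), [(2, 1)], 0), (([(3, 1)], 0), [], 0),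
  (([], 2), [(4, 1)], 0), (([], 2), [(5, 1)], 0), (([], 2), [(6, 1)], 0), (([(7, 1)], 0), [], 0),
  (([], 2), [(8, 1)], 0), (([(9, 1)], 0), [], 0), (([], 2), [(10, 1)], 0), (([], 2), [(11, 1)], 0),
  (([], 2), [(12, 1)], 0), (([], 2), [(13, 1)], 0), (([(14, 1)], 0), [], 0), (([(15, 1)], 0), [], 0),
  (([], 2), [(16, 1)], 0), (([(17, 1)], 0), [], 0), (([], 2), [(18, 1)], 0), (([], 2), [(19, 1)], 0),
  (([], 2), [(20, 1)], 0), (([], 2), [(21, 1)], 0), (([(22, 1)], 0), [], 0), (([(23, 1)], 0), [], 0),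
  (([(24, 1)], 0), [], 0), (([], 2), [(25, 1)], 0), (([], 2), [(26, 1)], 0), (([], 2), [(27, 1)], 0),
  (([], 2), [(28, 1)], 0), (([], 2), [(29, 1)], 0), (([(30, 1)], 0), [], 0), (([], 2), [(31, 1)], 0),
  (([(32, 1)], 0), [], 0), (([], 2), [(33, 1)], 0), (([(34, 1)], 0), [], 0), (([], 2), [(35, 1)], 0),
  (([], 2), [(36, 1)], 0), (([], 2), [(37, 1)], 0), (([], 2), [(38, 1)], 0), (([], 2), [(39, 1)], 0),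
  (([], 2), [(40, 1)], 0), (([], 2), [(41, 1)], 0), (([], 2), [(42, 1)], 0), (([(43, 1)], 0), [], 0),
  (([(44, 1)], 0), [], 0), (([(45, 1)], 0), [], 0), (([], 2), [(46, 1)], 0), (([], 2), [(47, 1)], 0),
  (([], 2), [(48, 1)], 0), (([], 2), [(49, 1)], 0), (([], 2), [(50, 1)], 0), (([], 2), [(51, 1)], 0),
  (([], 2), [(52, 1)], 0), (([], 2), [(53, 1)], 0), (([], 2), [(54, 1)], 0), (([], 2), [(55, 1)], 0),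
  (([(56, 1)], 0), [], 0), (([(57, 1)], 0), [], 0), (([], 2), [(58, 1)], 0), (([], 2), [(59, 1)], 0),
  (([], 2), [(60, 1)], 0), (([], 2), [(61, 1)], 0), (([], 2), [(62, 1)], 0), (([], 2), [(63, 1)], 0),
  (([], 2), [(64, 1)], 0), (([(65, 1)], 0), [], 0), (([(66, 1)], 0), [], 0), (([], 2), [(67, 1)], 0),
  (([], 2), [(68, 1)], 0), (([(69, 1)], 0), [], 0), (([], 2), [(70, 1)], 0), (([], 2), [(71, 1)], 0),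
  (([], 2), [(72, 1)], 0), (([(73, 1)], 0), [], 0), (([], 2), [(74, 1)], 0), (([], 2), [(75, 1)], 0),
  (([], 2), [(76, 1)], 0), (([], 2), [(77, 1)], 0)]

/-- the function of the letter 6 -/
def f6 (C : ℕ) : Fn (List (ℕ × ℕ)) 78 := fun (
    x0 x1 x2 x3 x4 x5 x6 x7 x8 x9 x10 x11 x12 x13 x14 x15 x16 x17 x18 x19 x20 x21 x22 x23 x24 x25 x26 x27 x28 x29
    x30 x31 x32 x33 x34 x35 x36 x37 x38 x39 x40 x41 x42 x43 x44 x45 x46 x47 x48 x49 x50 x51 x52 x53 x54 x55 x56 x57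
    x58 x59 x60 x61 x62 x63 x64 x65 x66 x67 x68 x69 x70 x71 x72 x73 x74 x75 x76 x77 : ℕ) => ([
  ((A (M 1 x0) (M 0 C)), (M 0 C)), ((M 2 C), (A (M 1 x1) (M 0 C))), ((M 2 C), (A (M 1 x2) (M 0 C))), ((A (M 1 x3)
  (M 0 C)), (M 0 C)), ((M 2 C), (A (M 1 x4) (M 0 C))), ((M 2 C), (A (M 1 x5) (M 0 C))), ((M 2 C), (A (M 1 x6)
  (M 0 C))), ((A (M 1 x7) (M 0 C)), (M 0 C)), ((M 2 C), (A (M 1 x8) (M 0 C))), ((A (M 1 x9) (M 0 C)), (M 0 C)),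
  ((M 2 C), (A (M 1 x10) (M 0 C))), ((M 2 C), (A (M 1 x11) (M 0 C))), ((M 2 C), (A (M 1 x12) (M 0 C))), ((M 2 C),
  (A (M 1 x13) (M 0 C))), ((A (M 1 x14) (M 0 C)), (M 0 C)), ((A (M 1 x15) (M 0 C)), (M 0 C)), ((M 2 C), (A (M 1 x16)
  (M 0 C))), ((A (M 1 x17) (M 0 C)), (M 0 C)), ((M 2 C), (A (M 1 x18) (M 0 C))), ((M 2 C), (A (M 1 x19) (M 0 C))),
  ((M 2 C), (A (M 1 x20) (M 0 C))), ((M 2 C), (A (M 1 x21) (M 0 C))), ((A (M 1 x22) (M 0 C)), (M 0 C)),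
  ((A (M 1 x23) (M 0 C)), (M 0 C)), ((A (M 1 x24) (M 0 C)), (M 0 C)), ((M 2 C), (A (M 1 x25) (M 0 C))), ((M 2 C),
  (A (M 1 x26) (M 0 C))), ((M 2 C), (A (M 1 x27) (M 0 C))), ((M 2 C), (A (M 1 x28) (M 0 C))), ((M 2 C), (A (M 1 x29)
  (M 0 C))), ((A (M 1 x30) (M 0 C)), (M 0 C)), ((M 2 C), (A (M 1 x31) (M 0 C))), ((A (M 1 x32) (M 0 C)), (M 0 C)),
  ((M 2 C), (A (M 1 x33) (M 0 C))), ((A (M 1 x34) (M 0 C)), (M 0 C)), ((M 2 C), (A (M 1 x35) (M 0 C))), ((M 2 C),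
  (A (M 1 x36) (M 0 C))), ((M 2 C), (A (M 1 x37) (M 0 C))), ((M 2 C), (A (M 1 x38) (M 0 C))), ((M 2 C), (A (M 1 x39)
  (M 0 C))), ((M 2 C), (A (M 1 x40) (M 0 C))), ((M 2 C), (A (M 1 x41) (M 0 C))), ((M 2 C), (A (M 1 x42) (M 0 C))),
  ((A (M 1 x43) (M 0 C)), (M 0 C)), ((A (M 1 x44) (M 0 C)), (M 0 C)), ((A (M 1 x45) (M 0 C)), (M 0 C)), ((M 2 C),
  (A (M 1 x46) (M 0 C))), ((M 2 C), (A (M 1 x47) (M 0 C))), ((M 2 C), (A (M 1 x48) (M 0 C))), ((M 2 C), (A (M 1 x49)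
  (M 0 C))), ((M 2 C), (A (M 1 x50) (M 0 C))), ((M 2 C), (A (M 1 x51) (M 0 C))), ((M 2 C), (A (M 1 x52) (M 0 C))),
  ((M 2 C), (A (M 1 x53) (M 0 C))), ((M 2 C), (A (M 1 x54) (M 0 C))), ((M 2 C), (A (M 1 x55) (M 0 C))),
  ((A (M 1 x56) (M 0 C)), (M 0 C)), ((A (M 1 x57) (M 0 C)), (M 0 C)), ((M 2 C), (A (M 1 x58) (M 0 C))), ((M 2 C),
  (A (M 1 x59) (M 0 C))), ((M 2 C), (A (M 1 x60) (M 0 C))), ((M 2 C), (A (M 1 x61) (M 0 C))), ((M 2 C), (A (M 1 x62)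
  (M 0 C))), ((M 2 C), (A (M 1 x63) (M 0 C))), ((M 2 C), (A (M 1 x64) (M 0 C))), ((A (M 1 x65) (M 0 C)), (M 0 C)),
  ((A (M 1 x66) (M 0 C)), (M 0 C)), ((M 2 C), (A (M 1 x67) (M 0 C))), ((M 2 C), (A (M 1 x68) (M 0 C))),
  ((A (M 1 x69) (M 0 C)), (M 0 C)), ((M 2 C), (A (M 1 x70) (M 0 C))), ((M 2 C), (A (M 1 x71) (M 0 C))), ((M 2 C),
  (A (M 1 x72) (M 0 C))), ((A (M 1 x73) (M 0 C)), (M 0 C)), ((M 2 C), (A (M 1 x74) (M 0 C))), ((M 2 C), (A (M 1 x75)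
  (M 0 C))), ((M 2 C), (A (M 1 x76) (M 0 C))), ((M 2 C), (A (M 1 x77) (M 0 C)))] : List (ℕ × ℕ))

theorem f6_eq : f6 = fnOf 78 m6 := rfl

/-- the letter 7 -/
def m7 : List Row := [
  (([(0, 1)], 0), [], 0), (([], 2), [(1, 1)], 0), (([], 2), [(2, 1)], 0), (([], 2), [(3, 1)], 0),
  (([], 2), [(4, 1)], 0), (([], 2), [(5, 1)], 0), (([(6, 1)], 0), [], 0), (([(7, 1)], 0), [], 0),
  (([(8, 1)], 0), [], 0), (([], 2), [(9, 1)], 0), (([], 2), [(10, 1)], 0), (([], 2), [(11, 1)], 0),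
  (([(12, 1)], 0), [], 0), (([(13, 1)], 0), [], 0), (([], 2), [(14, 1)], 0), (([], 2), [(15, 1)], 0),
  (([], 2), [(16, 1)], 0), (([], 2), [(17, 1)], 0), (([(18, 1)], 0), [], 0), (([], 2), [(19, 1)], 0),
  (([], 2), [(20, 1)], 0), (([], 2), [(21, 1)], 0), (([], 2), [(22, 1)], 0), (([(23, 1)], 0), [], 0),
  (([], 2), [(24, 1)], 0), (([(25, 1)], 0), [], 0), (([], 2), [(26, 1)], 0), (([(27, 1)], 0), [], 0),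
  (([], 2), [(28, 1)], 0), (([], 2), [(29, 1)], 0), (([], 2), [(30, 1)], 0), (([], 2), [(31, 1)], 0),
  (([(32, 1)], 0), [], 0), (([(33, 1)], 0), [], 0), (([], 2), [(34, 1)], 0), (([], 2), [(35, 1)], 0),
  (([(36, 1)], 0), [], 0), (([], 2), [(37, 1)], 0), (([], 2), [(38, 1)], 0), (([], 2), [(39, 1)], 0),
  (([], 2), [(40, 1)], 0), (([], 2), [(41, 1)], 0), (([], 2), [(42, 1)], 0), (([], 2), [(43, 1)], 0),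
  (([(44, 1)], 0), [], 0), (([], 2), [(45, 1)], 0), (([], 2), [(46, 1)], 0), (([], 2), [(47, 1)], 0),
  (([(48, 1)], 0), [], 0), (([], 2), [(49, 1)], 0), (([], 2), [(50, 1)], 0), (([], 2), [(51, 1)], 0),
  (([(52, 1)], 0), [], 0), (([], 2), [(53, 1)], 0), (([], 2), [(54, 1)], 0), (([(55, 1)], 0), [], 0),
  (([], 2), [(56, 1)], 0), (([], 2), [(57, 1)], 0), (([], 2), [(58, 1)], 0), (([], 2), [(59, 1)], 0),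
  (([(60, 1)], 0), [], 0), (([(61, 1)], 0), [], 0), (([], 2), [(62, 1)], 0), (([], 2), [(63, 1)], 0),
  (([], 2), [(64, 1)], 0), (([(65, 1)], 0), [], 0), (([], 2), [(66, 1)], 0), (([], 2), [(67, 1)], 0),
  (([], 2), [(68, 1)], 0), (([], 2), [(69, 1)], 0), (([], 2), [(70, 1)], 0), (([], 2), [(71, 1)], 0),
  (([(72, 1)], 0), [], 0), (([], 2), [(73, 1)], 0), (([(74, 1)], 0), [], 0), (([], 2), [(75, 1)], 0),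
  (([], 2), [(76, 1)], 0), (([], 2), [(77, 1)], 0)]

/-- the function of the letter 7 -/
def f7 (C : ℕ) : Fn (List (ℕ × ℕ)) 78 := fun (
    x0 x1 x2 x3 x4 x5 x6 x7 x8 x9 x10 x11 x12 x13 x14 x15 x16 x17 x18 x19 x20 x21 x22 x23 x24 x25 x26 x27 x28 x29
    x30 x31 x32 x33 x34 x35 x36 x37 x38 x39 x40 x41 x42 x43 x44 x45 x46 x47 x48 x49 x50 x51 x52 x53 x54 x55 x56 x57
    x58 x59 x60 x61 x62 x63 x64 x65 x66 x67 x68 x69 x70 x71 x72 x73 x74 x75 x76 x77 : ℕ) => ([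
  ((A (M 1 x0) (M 0 C)), (M 0 C)), ((M 2 C), (A (M 1 x1) (M 0 C))), ((M 2 C), (A (M 1 x2) (M 0 C))), ((M 2 C),
  (A (M 1 x3) (M 0 C))), ((M 2 C), (A (M 1 x4) (M 0 C))), ((M 2 C), (A (M 1 x5) (M 0 C))), ((A (M 1 x6) (M 0 C)),
  (M 0 C)), ((A (M 1 x7) (M 0 C)), (M 0 C)), ((A (M 1 x8) (M 0 C)), (M 0 C)), ((M 2 C), (A (M 1 x9) (M 0 C))),
  ((M 2 C), (A (M 1 x10) (M 0 C))), ((M 2 C), (A (M 1 x11) (M 0 C))), ((A (M 1 x12) (M 0 C)), (M 0 C)),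
  ((A (M 1 x13) (M 0 C)), (M 0 C)), ((M 2 C), (A (M 1 x14) (M 0 C))), ((M 2 C), (A (M 1 x15) (M 0 C))), ((M 2 C),
  (A (M 1 x16) (M 0 C))), ((M 2 C), (A (M 1 x17) (M 0 C))), ((A (M 1 x18) (M 0 C)), (M 0 C)), ((M 2 C), (A (M 1 x19)
  (M 0 C))), ((M 2 C), (A (M 1 x20) (M 0 C))), ((M 2 C), (A (M 1 x21) (M 0 C))), ((M 2 C), (A (M 1 x22) (M 0 C))),
  ((A (M 1 x23) (M 0 C)), (M 0 C)), ((M 2 C), (A (M 1 x24) (M 0 C))), ((A (M 1 x25) (M 0 C)), (M 0 C)), ((M 2 C),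
  (A (M 1 x26) (M 0 C))), ((A (M 1 x27) (M 0 C)), (M 0 C)), ((M 2 C), (A (M 1 x28) (M 0 C))), ((M 2 C), (A (M 1 x29)
  (M 0 C))), ((M 2 C), (A (M 1 x30) (M 0 C))), ((M 2 C), (A (M 1 x31) (M 0 C))), ((A (M 1 x32) (M 0 C)), (M 0 C)),
  ((A (M 1 x33) (M 0 C)), (M 0 C)), ((M 2 C), (A (M 1 x34) (M 0 C))), ((M 2 C), (A (M 1 x35) (M 0 C))),
  ((A (M 1 x36) (M 0 C)), (M 0 C)), ((M 2 C), (A (M 1 x37) (M 0 C))), ((M 2 C), (A (M 1 x38) (M 0 C))), ((M 2 C),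
  (A (M 1 x39) (M 0 C))), ((M 2 C), (A (M 1 x40) (M 0 C))), ((M 2 C), (A (M 1 x41) (M 0 C))), ((M 2 C), (A (M 1 x42)
  (M 0 C))), ((M 2 C), (A (M 1 x43) (M 0 C))), ((A (M 1 x44) (M 0 C)), (M 0 C)), ((M 2 C), (A (M 1 x45) (M 0 C))),
  ((M 2 C), (A (M 1 x46) (M 0 C))), ((M 2 C), (A (M 1 x47) (M 0 C))), ((A (M 1 x48) (M 0 C)), (M 0 C)), ((M 2 C),
  (A (M 1 x49) (M 0 C))), ((M 2 C), (A (M 1 x50) (M 0 C))), ((M 2 C), (A (M 1 x51) (M 0 C))), ((A (M 1 x52)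
  (M 0 C)), (M 0 C)), ((M 2 C), (A (M 1 x53) (M 0 C))), ((M 2 C), (A (M 1 x54) (M 0 C))), ((A (M 1 x55) (M 0 C)),
  (M 0 C)), ((M 2 C), (A (M 1 x56) (M 0 C))), ((M 2 C), (A (M 1 x57) (M 0 C))), ((M 2 C), (A (M 1 x58) (M 0 C))),
  ((M 2 C), (A (M 1 x59) (M 0 C))), ((A (M 1 x60) (M 0 C)), (M 0 C)), ((A (M 1 x61) (M 0 C)), (M 0 C)), ((M 2 C),
  (A (M 1 x62) (M 0 C))), ((M 2 C), (A (M 1 x63) (M 0 C))), ((M 2 C), (A (M 1 x64) (M 0 C))), ((A (M 1 x65)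
  (M 0 C)), (M 0 C)), ((M 2 C), (A (M 1 x66) (M 0 C))), ((M 2 C), (A (M 1 x67) (M 0 C))), ((M 2 C), (A (M 1 x68)
  (M 0 C))), ((M 2 C), (A (M 1 x69) (M 0 C))), ((M 2 C), (A (M 1 x70) (M 0 C))), ((M 2 C), (A (M 1 x71) (M 0 C))),
  ((A (M 1 x72) (M 0 C)), (M 0 C)), ((M 2 C), (A (M 1 x73) (M 0 C))), ((A (M 1 x74) (M 0 C)), (M 0 C)), ((M 2 C),
  (A (M 1 x75) (M 0 C))), ((M 2 C), (A (M 1 x76) (M 0 C))), ((M 2 C), (A (M 1 x77) (M 0 C)))] : List (ℕ × ℕ))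

theorem f7_eq : f7 = fnOf 78 m7 := rfl

/-- the letter 8 -/
def m8 : List Row := [
  (([], 8), [(0, 2), (3, 2)], 0), (([(51, 2)], 8), [(1, 2), (36, 2), (62, 2)], 0), (([(13, 2), (53, 2),
  (68, 2)], 0), [(2, 2)], 0), (([(3, 2)], 8), [(0, 6)], 0), (([(61, 1), (63, 1), (71, 1), (72, 1), (75, 1),
  (76, 1)], 8), [(4, 1), (12, 1), (27, 1), (28, 1), (37, 1), (39, 1), (48, 1), (50, 1), (54, 1), (55, 1)], 0),
  (([(38, 2)], 8), [(5, 2), (49, 2), (60, 2)], 0), (([(47, 2)], 8), [(6, 2), (40, 2), (59, 2)], 0),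
  (([(9, 2)], 8), [(7, 2), (56, 2), (57, 2)], 0), (([(11, 2), (26, 2), (77, 2)], 0), [(8, 2)], 0),
  (([(7, 2)], 8), [(9, 2), (56, 2), (57, 2)], 0), (([(35, 2)], 8), [(10, 2), (52, 2), (58, 2)], 0), (([(8, 2),
  (26, 2), (77, 2)], 0), [(11, 2)], 0), (([(37, 1), (39, 1), (48, 1), (50, 1), (61, 1), (63, 1)], 8), [(4, 1),
  (12, 1), (27, 1), (28, 1), (54, 1), (55, 1), (71, 1), (72, 1), (75, 1), (76, 1)], 0), (([(2, 2), (53, 2),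
  (68, 2)], 0), [(13, 2)], 0), (([(34, 2), (44, 2), (66, 2)], 0), [(14, 2)], 0), (([(24, 2)], 8), [(15, 2), (32, 2),
  (73, 2)], 0), (([(67, 2)], 8), [(16, 2), (33, 2), (46, 2)], 0), (([(23, 2)], 8), [(17, 2), (45, 2), (69, 2)], 0),
  (([(21, 2), (41, 2), (70, 2)], 0), [(18, 2)], 0), (([(20, 2), (31, 2), (74, 2)], 0), [(19, 2)], 0), (([(19, 2),
  (31, 2), (74, 2)], 0), [(20, 2)], 0), (([(18, 2), (41, 2), (70, 2)], 0), [(21, 2)], 0), (([(30, 2), (43, 2),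
  (65, 2)], 0), [(22, 2)], 0), (([(17, 2)], 8), [(23, 2), (45, 2), (69, 2)], 0), (([(15, 2)], 8), [(24, 2), (32, 2),
  (73, 2)], 0), (([(64, 2)], 8), [(25, 2), (29, 2), (42, 2)], 0), (([(8, 2), (11, 2), (77, 2)], 0), [(26, 2)], 0),
  (([(37, 1), (39, 1), (54, 1), (55, 1), (71, 1), (72, 1)], 8), [(4, 1), (12, 1), (27, 1), (28, 1), (48, 1),
  (50, 1), (61, 1), (63, 1), (75, 1), (76, 1)], 0), (([(48, 1), (50, 1), (54, 1), (55, 1), (75, 1),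
  (76, 1)], 8), [(4, 1), (12, 1), (27, 1), (28, 1), (37, 1), (39, 1), (61, 1), (63, 1), (71, 1), (72, 1)], 0),
  (([(42, 2)], 8), [(25, 2), (29, 2), (64, 2)], 0), (([(22, 2), (43, 2), (65, 2)], 0), [(30, 2)], 0), (([(19, 2),
  (20, 2), (74, 2)], 0), [(31, 2)], 0), (([(73, 2)], 8), [(15, 2), (24, 2), (32, 2)], 0), (([(46, 2)], 8), [(16, 2),
  (33, 2), (67, 2)], 0), (([(14, 2), (44, 2), (66, 2)], 0), [(34, 2)], 0), (([(10, 2)], 8), [(35, 2), (52, 2),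
  (58, 2)], 0), (([(62, 2)], 8), [(1, 2), (36, 2), (51, 2)], 0), (([(12, 1), (27, 1), (50, 1), (54, 1), (63, 1),
  (71, 1)], 8), [(4, 1), (28, 1), (37, 1), (39, 1), (48, 1), (55, 1), (61, 1), (72, 1), (75, 1), (76, 1)], 0),
  (([(5, 2)], 8), [(38, 2), (49, 2), (60, 2)], 0), (([(12, 1), (27, 1), (48, 1), (55, 1), (61, 1),
  (72, 1)], 8), [(4, 1), (28, 1), (37, 1), (39, 1), (50, 1), (54, 1), (63, 1), (71, 1), (75, 1), (76, 1)], 0),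
  (([(59, 2)], 8), [(6, 2), (40, 2), (47, 2)], 0), (([(18, 2), (21, 2), (70, 2)], 0), [(41, 2)], 0),
  (([(29, 2)], 8), [(25, 2), (42, 2), (64, 2)], 0), (([(22, 2), (30, 2), (65, 2)], 0), [(43, 2)], 0), (([(14, 2),
  (34, 2), (66, 2)], 0), [(44, 2)], 0), (([(69, 2)], 8), [(17, 2), (23, 2), (45, 2)], 0), (([(33, 2)], 8), [(16, 2),
  (46, 2), (67, 2)], 0), (([(6, 2)], 8), [(40, 2), (47, 2), (59, 2)], 0), (([(12, 1), (28, 1), (39, 1), (54, 1),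
  (61, 1), (75, 1)], 8), [(4, 1), (27, 1), (37, 1), (48, 1), (50, 1), (55, 1), (63, 1), (71, 1), (72, 1),
  (76, 1)], 0), (([(60, 2)], 8), [(5, 2), (38, 2), (49, 2)], 0), (([(12, 1), (28, 1), (37, 1), (55, 1), (63, 1),
  (76, 1)], 8), [(4, 1), (27, 1), (39, 1), (48, 1), (50, 1), (54, 1), (61, 1), (71, 1), (72, 1), (75, 1)], 0),
  (([(1, 2)], 8), [(36, 2), (51, 2), (62, 2)], 0), (([(58, 2)], 8), [(10, 2), (35, 2), (52, 2)], 0), (([(2, 2),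
  (13, 2), (68, 2)], 0), [(53, 2)], 0), (([(27, 1), (28, 1), (37, 1), (48, 1), (71, 1), (75, 1)], 8), [(4, 1),
  (12, 1), (39, 1), (50, 1), (54, 1), (55, 1), (61, 1), (63, 1), (72, 1), (76, 1)], 0), (([(27, 1), (28, 1),
  (39, 1), (50, 1), (72, 1), (76, 1)], 8), [(4, 1), (12, 1), (37, 1), (48, 1), (54, 1), (55, 1), (61, 1), (63, 1),
  (71, 1), (75, 1)], 0), (([(57, 2)], 8), [(7, 2), (9, 2), (56, 2)], 0), (([(56, 2)], 8), [(7, 2), (9, 2),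
  (57, 2)], 0), (([(52, 2)], 8), [(10, 2), (35, 2), (58, 2)], 0), (([(40, 2)], 8), [(6, 2), (47, 2), (59, 2)], 0),
  (([(49, 2)], 8), [(5, 2), (38, 2), (60, 2)], 0), (([(4, 1), (12, 1), (39, 1), (48, 1), (71, 1),
  (76, 1)], 8), [(27, 1), (28, 1), (37, 1), (50, 1), (54, 1), (55, 1), (61, 1), (63, 1), (72, 1), (75, 1)], 0),
  (([(36, 2)], 8), [(1, 2), (51, 2), (62, 2)], 0), (([(4, 1), (12, 1), (37, 1), (50, 1), (72, 1),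
  (75, 1)], 8), [(27, 1), (28, 1), (39, 1), (48, 1), (54, 1), (55, 1), (61, 1), (63, 1), (71, 1), (76, 1)], 0),
  (([(25, 2)], 8), [(29, 2), (42, 2), (64, 2)], 0), (([(22, 2), (30, 2), (43, 2)], 0), [(65, 2)], 0), (([(14, 2),
  (34, 2), (44, 2)], 0), [(66, 2)], 0), (([(16, 2)], 8), [(33, 2), (46, 2), (67, 2)], 0), (([(2, 2), (13, 2),
  (53, 2)], 0), [(68, 2)], 0), (([(45, 2)], 8), [(17, 2), (23, 2), (69, 2)], 0), (([(18, 2), (21, 2),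
  (41, 2)], 0), [(70, 2)], 0), (([(4, 1), (27, 1), (37, 1), (54, 1), (61, 1), (76, 1)], 8), [(12, 1), (28, 1),
  (39, 1), (48, 1), (50, 1), (55, 1), (63, 1), (71, 1), (72, 1), (75, 1)], 0), (([(4, 1), (27, 1), (39, 1), (55, 1),
  (63, 1), (75, 1)], 8), [(12, 1), (28, 1), (37, 1), (48, 1), (50, 1), (54, 1), (61, 1), (71, 1), (72, 1),
  (76, 1)], 0), (([(32, 2)], 8), [(15, 2), (24, 2), (73, 2)], 0), (([(19, 2), (20, 2), (31, 2)], 0), [(74, 2)], 0),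
  (([(4, 1), (28, 1), (48, 1), (54, 1), (63, 1), (72, 1)], 8), [(12, 1), (27, 1), (37, 1), (39, 1), (50, 1),
  (55, 1), (61, 1), (71, 1), (75, 1), (76, 1)], 0), (([(4, 1), (28, 1), (50, 1), (55, 1), (61, 1),
  (71, 1)], 8), [(12, 1), (27, 1), (37, 1), (39, 1), (48, 1), (54, 1), (63, 1), (72, 1), (75, 1), (76, 1)], 0),
  (([(8, 2), (11, 2), (26, 2)], 0), [(77, 2)], 0)]

/-- the function of the letter 8 -/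
def f8 (C : ℕ) : Fn (List (ℕ × ℕ)) 78 := fun (
    x0 x1 x2 x3 x4 x5 x6 x7 x8 x9 x10 x11 x12 x13 x14 x15 x16 x17 x18 x19 x20 x21 x22 x23 x24 x25 x26 x27 x28 x29
    x30 x31 x32 x33 x34 x35 x36 x37 x38 x39 x40 x41 x42 x43 x44 x45 x46 x47 x48 x49 x50 x51 x52 x53 x54 x55 x56 x57
    x58 x59 x60 x61 x62 x63 x64 x65 x66 x67 x68 x69 x70 x71 x72 x73 x74 x75 x76 x77 : ℕ) => ([
  ((M 8 C), (A (M 2 x0) (A (M 2 x3) (M 0 C)))), ((A (M 2 x51) (M 8 C)), (A (M 2 x1) (A (M 2 x36) (A (M 2 x62)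
  (M 0 C))))), ((A (M 2 x13) (A (M 2 x53) (A (M 2 x68) (M 0 C)))), (A (M 2 x2) (M 0 C))), ((A (M 2 x3) (M 8 C)),
  (A (M 6 x0) (M 0 C))), ((A (M 1 x61) (A (M 1 x63) (A (M 1 x71) (A (M 1 x72) (A (M 1 x75) (A (M 1 x76)
  (M 8 C))))))), (A (M 1 x4) (A (M 1 x12) (A (M 1 x27) (A (M 1 x28) (A (M 1 x37) (A (M 1 x39) (A (M 1 x48)
  (A (M 1 x50) (A (M 1 x54) (A (M 1 x55) (M 0 C)))))))))))), ((A (M 2 x38) (M 8 C)), (A (M 2 x5) (A (M 2 x49)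
  (A (M 2 x60) (M 0 C))))), ((A (M 2 x47) (M 8 C)), (A (M 2 x6) (A (M 2 x40) (A (M 2 x59) (M 0 C))))), ((A (M 2 x9)
  (M 8 C)), (A (M 2 x7) (A (M 2 x56) (A (M 2 x57) (M 0 C))))), ((A (M 2 x11) (A (M 2 x26) (A (M 2 x77) (M 0 C)))),
  (A (M 2 x8) (M 0 C))), ((A (M 2 x7) (M 8 C)), (A (M 2 x9) (A (M 2 x56) (A (M 2 x57) (M 0 C))))), ((A (M 2 x35)
  (M 8 C)), (A (M 2 x10) (A (M 2 x52) (A (M 2 x58) (M 0 C))))), ((A (M 2 x8) (A (M 2 x26) (A (M 2 x77) (M 0 C)))),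
  (A (M 2 x11) (M 0 C))), ((A (M 1 x37) (A (M 1 x39) (A (M 1 x48) (A (M 1 x50) (A (M 1 x61) (A (M 1 x63)
  (M 8 C))))))), (A (M 1 x4) (A (M 1 x12) (A (M 1 x27) (A (M 1 x28) (A (M 1 x54) (A (M 1 x55) (A (M 1 x71)
  (A (M 1 x72) (A (M 1 x75) (A (M 1 x76) (M 0 C)))))))))))), ((A (M 2 x2) (A (M 2 x53) (A (M 2 x68) (M 0 C)))),
  (A (M 2 x13) (M 0 C))), ((A (M 2 x34) (A (M 2 x44) (A (M 2 x66) (M 0 C)))), (A (M 2 x14) (M 0 C))), ((A (M 2 x24)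
  (M 8 C)), (A (M 2 x15) (A (M 2 x32) (A (M 2 x73) (M 0 C))))), ((A (M 2 x67) (M 8 C)), (A (M 2 x16) (A (M 2 x33)
  (A (M 2 x46) (M 0 C))))), ((A (M 2 x23) (M 8 C)), (A (M 2 x17) (A (M 2 x45) (A (M 2 x69) (M 0 C))))),
  ((A (M 2 x21) (A (M 2 x41) (A (M 2 x70) (M 0 C)))), (A (M 2 x18) (M 0 C))), ((A (M 2 x20) (A (M 2 x31)
  (A (M 2 x74) (M 0 C)))), (A (M 2 x19) (M 0 C))), ((A (M 2 x19) (A (M 2 x31) (A (M 2 x74) (M 0 C)))), (A (M 2 x20)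
  (M 0 C))), ((A (M 2 x18) (A (M 2 x41) (A (M 2 x70) (M 0 C)))), (A (M 2 x21) (M 0 C))), ((A (M 2 x30) (A (M 2 x43)
  (A (M 2 x65) (M 0 C)))), (A (M 2 x22) (M 0 C))), ((A (M 2 x17) (M 8 C)), (A (M 2 x23) (A (M 2 x45) (A (M 2 x69)
  (M 0 C))))), ((A (M 2 x15) (M 8 C)), (A (M 2 x24) (A (M 2 x32) (A (M 2 x73) (M 0 C))))), ((A (M 2 x64) (M 8 C)),
  (A (M 2 x25) (A (M 2 x29) (A (M 2 x42) (M 0 C))))), ((A (M 2 x8) (A (M 2 x11) (A (M 2 x77) (M 0 C)))),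
  (A (M 2 x26) (M 0 C))), ((A (M 1 x37) (A (M 1 x39) (A (M 1 x54) (A (M 1 x55) (A (M 1 x71) (A (M 1 x72)
  (M 8 C))))))), (A (M 1 x4) (A (M 1 x12) (A (M 1 x27) (A (M 1 x28) (A (M 1 x48) (A (M 1 x50) (A (M 1 x61)
  (A (M 1 x63) (A (M 1 x75) (A (M 1 x76) (M 0 C)))))))))))), ((A (M 1 x48) (A (M 1 x50) (A (M 1 x54) (A (M 1 x55)
  (A (M 1 x75) (A (M 1 x76) (M 8 C))))))), (A (M 1 x4) (A (M 1 x12) (A (M 1 x27) (A (M 1 x28) (A (M 1 x37)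
  (A (M 1 x39) (A (M 1 x61) (A (M 1 x63) (A (M 1 x71) (A (M 1 x72) (M 0 C)))))))))))), ((A (M 2 x42) (M 8 C)),
  (A (M 2 x25) (A (M 2 x29) (A (M 2 x64) (M 0 C))))), ((A (M 2 x22) (A (M 2 x43) (A (M 2 x65) (M 0 C)))),
  (A (M 2 x30) (M 0 C))), ((A (M 2 x19) (A (M 2 x20) (A (M 2 x74) (M 0 C)))), (A (M 2 x31) (M 0 C))), ((A (M 2 x73)
  (M 8 C)), (A (M 2 x15) (A (M 2 x24) (A (M 2 x32) (M 0 C))))), ((A (M 2 x46) (M 8 C)), (A (M 2 x16) (A (M 2 x33)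
  (A (M 2 x67) (M 0 C))))), ((A (M 2 x14) (A (M 2 x44) (A (M 2 x66) (M 0 C)))), (A (M 2 x34) (M 0 C))),
  ((A (M 2 x10) (M 8 C)), (A (M 2 x35) (A (M 2 x52) (A (M 2 x58) (M 0 C))))), ((A (M 2 x62) (M 8 C)), (A (M 2 x1)
  (A (M 2 x36) (A (M 2 x51) (M 0 C))))), ((A (M 1 x12) (A (M 1 x27) (A (M 1 x50) (A (M 1 x54) (A (M 1 x63)
  (A (M 1 x71) (M 8 C))))))), (A (M 1 x4) (A (M 1 x28) (A (M 1 x37) (A (M 1 x39) (A (M 1 x48) (A (M 1 x55)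
  (A (M 1 x61) (A (M 1 x72) (A (M 1 x75) (A (M 1 x76) (M 0 C)))))))))))), ((A (M 2 x5) (M 8 C)), (A (M 2 x38)
  (A (M 2 x49) (A (M 2 x60) (M 0 C))))), ((A (M 1 x12) (A (M 1 x27) (A (M 1 x48) (A (M 1 x55) (A (M 1 x61)
  (A (M 1 x72) (M 8 C))))))), (A (M 1 x4) (A (M 1 x28) (A (M 1 x37) (A (M 1 x39) (A (M 1 x50) (A (M 1 x54)
  (A (M 1 x63) (A (M 1 x71) (A (M 1 x75) (A (M 1 x76) (M 0 C)))))))))))), ((A (M 2 x59) (M 8 C)), (A (M 2 x6)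
  (A (M 2 x40) (A (M 2 x47) (M 0 C))))), ((A (M 2 x18) (A (M 2 x21) (A (M 2 x70) (M 0 C)))), (A (M 2 x41) (M 0 C))),
  ((A (M 2 x29) (M 8 C)), (A (M 2 x25) (A (M 2 x42) (A (M 2 x64) (M 0 C))))), ((A (M 2 x22) (A (M 2 x30)
  (A (M 2 x65) (M 0 C)))), (A (M 2 x43) (M 0 C))), ((A (M 2 x14) (A (M 2 x34) (A (M 2 x66) (M 0 C)))), (A (M 2 x44)
  (M 0 C))), ((A (M 2 x69) (M 8 C)), (A (M 2 x17) (A (M 2 x23) (A (M 2 x45) (M 0 C))))), ((A (M 2 x33) (M 8 C)),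
  (A (M 2 x16) (A (M 2 x46) (A (M 2 x67) (M 0 C))))), ((A (M 2 x6) (M 8 C)), (A (M 2 x40) (A (M 2 x47) (A (M 2 x59)
  (M 0 C))))), ((A (M 1 x12) (A (M 1 x28) (A (M 1 x39) (A (M 1 x54) (A (M 1 x61) (A (M 1 x75) (M 8 C))))))),
  (A (M 1 x4) (A (M 1 x27) (A (M 1 x37) (A (M 1 x48) (A (M 1 x50) (A (M 1 x55) (A (M 1 x63) (A (M 1 x71)
  (A (M 1 x72) (A (M 1 x76) (M 0 C)))))))))))), ((A (M 2 x60) (M 8 C)), (A (M 2 x5) (A (M 2 x38) (A (M 2 x49)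
  (M 0 C))))), ((A (M 1 x12) (A (M 1 x28) (A (M 1 x37) (A (M 1 x55) (A (M 1 x63) (A (M 1 x76) (M 8 C))))))),
  (A (M 1 x4) (A (M 1 x27) (A (M 1 x39) (A (M 1 x48) (A (M 1 x50) (A (M 1 x54) (A (M 1 x61) (A (M 1 x71)
  (A (M 1 x72) (A (M 1 x75) (M 0 C)))))))))))), ((A (M 2 x1) (M 8 C)), (A (M 2 x36) (A (M 2 x51) (A (M 2 x62)
  (M 0 C))))), ((A (M 2 x58) (M 8 C)), (A (M 2 x10) (A (M 2 x35) (A (M 2 x52) (M 0 C))))), ((A (M 2 x2) (A (M 2 x13)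
  (A (M 2 x68) (M 0 C)))), (A (M 2 x53) (M 0 C))), ((A (M 1 x27) (A (M 1 x28) (A (M 1 x37) (A (M 1 x48) (A (M 1 x71)
  (A (M 1 x75) (M 8 C))))))), (A (M 1 x4) (A (M 1 x12) (A (M 1 x39) (A (M 1 x50) (A (M 1 x54) (A (M 1 x55)
  (A (M 1 x61) (A (M 1 x63) (A (M 1 x72) (A (M 1 x76) (M 0 C)))))))))))), ((A (M 1 x27) (A (M 1 x28) (A (M 1 x39)
  (A (M 1 x50) (A (M 1 x72) (A (M 1 x76) (M 8 C))))))), (A (M 1 x4) (A (M 1 x12) (A (M 1 x37) (A (M 1 x48)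
  (A (M 1 x54) (A (M 1 x55) (A (M 1 x61) (A (M 1 x63) (A (M 1 x71) (A (M 1 x75) (M 0 C)))))))))))), ((A (M 2 x57)
  (M 8 C)), (A (M 2 x7) (A (M 2 x9) (A (M 2 x56) (M 0 C))))), ((A (M 2 x56) (M 8 C)), (A (M 2 x7) (A (M 2 x9)
  (A (M 2 x57) (M 0 C))))), ((A (M 2 x52) (M 8 C)), (A (M 2 x10) (A (M 2 x35) (A (M 2 x58) (M 0 C))))),
  ((A (M 2 x40) (M 8 C)), (A (M 2 x6) (A (M 2 x47) (A (M 2 x59) (M 0 C))))), ((A (M 2 x49) (M 8 C)), (A (M 2 x5)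
  (A (M 2 x38) (A (M 2 x60) (M 0 C))))), ((A (M 1 x4) (A (M 1 x12) (A (M 1 x39) (A (M 1 x48) (A (M 1 x71)
  (A (M 1 x76) (M 8 C))))))), (A (M 1 x27) (A (M 1 x28) (A (M 1 x37) (A (M 1 x50) (A (M 1 x54) (A (M 1 x55)
  (A (M 1 x61) (A (M 1 x63) (A (M 1 x72) (A (M 1 x75) (M 0 C)))))))))))), ((A (M 2 x36) (M 8 C)), (A (M 2 x1)
  (A (M 2 x51) (A (M 2 x62) (M 0 C))))), ((A (M 1 x4) (A (M 1 x12) (A (M 1 x37) (A (M 1 x50) (A (M 1 x72)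
  (A (M 1 x75) (M 8 C))))))), (A (M 1 x27) (A (M 1 x28) (A (M 1 x39) (A (M 1 x48) (A (M 1 x54) (A (M 1 x55)
  (A (M 1 x61) (A (M 1 x63) (A (M 1 x71) (A (M 1 x76) (M 0 C)))))))))))), ((A (M 2 x25) (M 8 C)), (A (M 2 x29)
  (A (M 2 x42) (A (M 2 x64) (M 0 C))))), ((A (M 2 x22) (A (M 2 x30) (A (M 2 x43) (M 0 C)))), (A (M 2 x65) (M 0 C))),
  ((A (M 2 x14) (A (M 2 x34) (A (M 2 x44) (M 0 C)))), (A (M 2 x66) (M 0 C))), ((A (M 2 x16) (M 8 C)), (A (M 2 x33)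
  (A (M 2 x46) (A (M 2 x67) (M 0 C))))), ((A (M 2 x2) (A (M 2 x13) (A (M 2 x53) (M 0 C)))), (A (M 2 x68) (M 0 C))),
  ((A (M 2 x45) (M 8 C)), (A (M 2 x17) (A (M 2 x23) (A (M 2 x69) (M 0 C))))), ((A (M 2 x18) (A (M 2 x21)
  (A (M 2 x41) (M 0 C)))), (A (M 2 x70) (M 0 C))), ((A (M 1 x4) (A (M 1 x27) (A (M 1 x37) (A (M 1 x54) (A (M 1 x61)
  (A (M 1 x76) (M 8 C))))))), (A (M 1 x12) (A (M 1 x28) (A (M 1 x39) (A (M 1 x48) (A (M 1 x50) (A (M 1 x55)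
  (A (M 1 x63) (A (M 1 x71) (A (M 1 x72) (A (M 1 x75) (M 0 C)))))))))))), ((A (M 1 x4) (A (M 1 x27) (A (M 1 x39)
  (A (M 1 x55) (A (M 1 x63) (A (M 1 x75) (M 8 C))))))), (A (M 1 x12) (A (M 1 x28) (A (M 1 x37) (A (M 1 x48)
  (A (M 1 x50) (A (M 1 x54) (A (M 1 x61) (A (M 1 x71) (A (M 1 x72) (A (M 1 x76) (M 0 C)))))))))))), ((A (M 2 x32)
  (M 8 C)), (A (M 2 x15) (A (M 2 x24) (A (M 2 x73) (M 0 C))))), ((A (M 2 x19) (A (M 2 x20) (A (M 2 x31) (M 0 C)))),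
  (A (M 2 x74) (M 0 C))), ((A (M 1 x4) (A (M 1 x28) (A (M 1 x48) (A (M 1 x54) (A (M 1 x63) (A (M 1 x72)
  (M 8 C))))))), (A (M 1 x12) (A (M 1 x27) (A (M 1 x37) (A (M 1 x39) (A (M 1 x50) (A (M 1 x55) (A (M 1 x61)
  (A (M 1 x71) (A (M 1 x75) (A (M 1 x76) (M 0 C)))))))))))), ((A (M 1 x4) (A (M 1 x28) (A (M 1 x50) (A (M 1 x55)
  (A (M 1 x61) (A (M 1 x71) (M 8 C))))))), (A (M 1 x12) (A (M 1 x27) (A (M 1 x37) (A (M 1 x39) (A (M 1 x48)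
  (A (M 1 x54) (A (M 1 x63) (A (M 1 x72) (A (M 1 x75) (A (M 1 x76) (M 0 C)))))))))))), ((A (M 2 x8) (A (M 2 x11)
  (A (M 2 x26) (M 0 C)))), (A (M 2 x77) (M 0 C)))] : List (ℕ × ℕ))

theorem f8_eq : f8 = fnOf 78 m8 := rfl

/-- the letters -/
def ms : List (List Row) := [m0, m1, m2, m3, m4, m5, m6, m7, m8]

/-- the functions -/
def fs : List (ℕ → Fn (List (ℕ × ℕ)) 78) := [f0, f1, f2, f3, f4, f5, f6, f7, f8]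

/-- the denominators -/
def sc : List ℕ := [1, 4, 1, 4, 1, 4, 1, 1, 4]

theorem ok_ms : OkL 78 ms sc fs := by
  refine ⟨?_, by decide +kernel⟩
  rw [fs, f0_eq, f1_eq, f2_eq, f3_eq, f4_eq, f5_eq, f6_eq, f7_eq, f8_eq]
  rfl

/-- the labels of the diagram -/
def lab (x y : ℕ) : ℕ :=
  if x = y then 1 else if (x, y) ∈ [(0, 1), (1, 2), (2, 3), (3, 4), (3, 7), (4, 5), (5, 6), (7, 8)] then 3 else 2

theorem cox_chk : ∀ y < 9, ∀ x ≤ y, relB 78 ms sc fs 16 (List.replicate (lab x y) [x, y]).flatten = true := by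
  decide +kernel

theorem spider_chk : relB 78 ms sc fs 16 (List.replicate 10 [3, 2, 1, 3, 4, 5, 3, 7, 8]).flatten = true := by
  decide +kernel

theorem e7a_chk : relB 78 ms sc fs 16 (List.replicate 9 [0, 1, 2, 3, 4, 5, 7]).flatten = true := by decide +kernel

theorem e7b_chk : relB 78 ms sc fs 16 (List.replicate 9 [1, 2, 3, 4, 5, 6, 7]).flatten = true := by decide +kernel

end Cfsg.Agent.TAB.F22
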